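import Groth.Agent.FundLocIsoLib.SmoothDual
import Groth.Agent.ProjSerreLib.CMVanish
import Groth.Agent.ProjSerreLib.CMDual
import Groth.Agent.SmoothWeil.Dom
import Groth.Agent.CurveLib.GlobalFun
import Groth.Agent.S10881

/-!
# Serre duality on smooth projective varieties
-/

set_option autoImplicit false
set_option backward.isDefEq.respectTransparency false
set_option linter.style.haveILetI false
set_option maxHeartbeats 1000000

universe u

open CategoryTheory CategoryTheory.Limits AlgebraicGeometry TopologicalSpace Opposite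
open Groth.Agent.PullbackMod Groth.Agent.DCohLib Groth.Agent.ProjSerreLib

noncomputable section

namespace Groth.Agent.FundLocIsoLib

variable {k : Type u} [Field k] {N n : ℕ} {X : Scheme.{u}} [X.Over (Spec (CommRingCat.of k))]
  (ι : X ⟶ CohB1.ProjSpace N k) [IsClosedImmersion ι]
  (hι : ι ≫ CohB1.ProjSpace.toSpec N k = X ↘ Spec (CommRingCat.of k))
  [SmoothOfRelativeDimension n (X ↘ Spec (CommRingCat.of k))] [ConnectedSpace X]
  {Ω : X.Modules} (hΩ : ExtPow.IsExtPow n (Omega.sheaf (X ↘ Spec (CommRingCat.of k))) Ω)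

include hι

theorem cm_closedPoint (x : X) (hx : IsClosed ({x} : Set X)) :
    LocCoh.IsCohenMacaulayLocalRing (X.presheaf.stalk x) ∧ ringKrullDim (X.presheaf.stalk x) = n := by
  haveI : Smooth (X ↘ Spec (CommRingCat.of k)) := SmoothOfRelativeDimension.smooth n _
  haveI : IsRegularLocalRing (X.presheaf.stalk x) := ASp.isRegularLocalRing_stalk_of_smooth_field (X ↘ Spec (CommRingCat.of k)) x
  refine ⟨Groth.Agent.S10881.cm_of_regular _, ?_⟩
  rw [← DimFormulaLib.localDim_eq_of_isClosed (X ↘ Spec (CommRingCat.of k)) _ hx,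
    Groth.Agent.S2768.localDim_eq n (X ↘ Spec (CommRingCat.of k))]

include hΩ

theorem isCoh_topForms : Coh.IsCoh Ω := by
  haveI : QuasiSeparated (X ↘ Spec (CommRingCat.of k)) := by rw [← hι]; infer_instance
  haveI := isNoetherian_sub ι
  exact CurveLib.isCoh_of_isFinLocFree (CurveLib.isFinLocFree_of_isInvertible
    (SeesawVB.isInvertible_of_isExtPow hΩ (SeesawVB.exists_frame_omega (X ↘ Spec (CommRingCat.of k)) n)))

/-- Serre duality. -/
theorem nonempty_ext_dual [HasExt.{u} X.Modules] {F : X.Modules} (hF : Coh.IsCoh F) {i : ℕ} (hi : i ≤ n) :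
    Nonempty (Abelian.Ext F Ω i ≃ₗ[k] Module.Dual k (Coh.HH X F (n - i))) := by
  haveI := isProper_over ι hι
  haveI := EulerIneqLib.isNoetherian_proper (X := X) k
  have hn : topologicalKrullDim X = n := JacLib.topologicalKrullDim_of_smooth (X ↘ Spec (CommRingCat.of k)) n
  have hvan := vanish_of_cm ι (cm_closedPoint (n := n) ι hι)
  obtain ⟨t, ht⟩ := exists_trace_topForms ι hι hΩ
  obtain ⟨hfin, h⟩ := finrank_ext_gen ι (isCoh_topForms ι hι hΩ) hvan t hn.le ht i hi F hF
  haveI := hfin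
  haveI := EulerIneqLib.finite_HH (k := k) hF (n - i)
  exact ⟨LinearEquiv.ofFinrankEq _ _ (h.trans Subspace.dual_finrank_eq.symm)⟩

/-- Serre duality for vector bundles. -/
theorem nonempty_dual_hF [HasExt.{u} X.Modules] {F : X.Modules} (hF : FlatMod.IsFinLocFree F) [DCoh.HasSheafHom F] {p : ℕ} (hp : p ≤ n) :
    Nonempty (Module.Dual k (Coh.HH X F p) ≃ₗ[k] Coh.HH X ((DCoh.sheafHom F).obj Ω) (n - p)) := by
  haveI := isProper_over ι hι
  haveI := EulerIneqLib.isNoetherian_proper (X := X) k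
  have hn : topologicalKrullDim X = n := JacLib.topologicalKrullDim_of_smooth (X ↘ Spec (CommRingCat.of k)) n
  have hvan := vanish_of_cm ι (cm_closedPoint (n := n) ι hι)
  obtain ⟨t, ht⟩ := exists_trace_topForms ι hι hΩ
  have hω := isCoh_topForms ι hι hΩ
  have h := finrank_hF_gen ι hω hvan t hn.le ht (n - p) (Nat.sub_le _ _) F hF
  rw [Nat.sub_sub_self hp] at h
  haveI := EulerIneqLib.finite_HH (k := k) (CurveLib.isCoh_of_isFinLocFree hF) p
  haveI := EulerIneqLib.finite_HH (k := k) (isCoh_hF hF hω) (n - p)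
  obtain ⟨ψ⟩ := nonempty_sheafHom_iso F Ω
  let e : Module.Dual k (Coh.HH X F p) ≃ₗ[k] Coh.HH X ((StalkHomLib.hF F).obj Ω) (n - p) :=
    LinearEquiv.ofFinrankEq (R := k) _ _ (Subspace.dual_finrank_eq.trans h.symm)
  exact ⟨e.trans (LinearEquiv.ofBijective _ (CurveLib.hMap_bijective_iso (k := k) ψ (n - p)))⟩

/-- The top cohomology of the top forms is one-dimensional. -/
theorem finrank_top_topForms [IsAlgClosed k] : Module.finrank k (Coh.HH X Ω n) = 1 := by
  haveI := isProper_over ι hι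
  haveI := EulerIneqLib.isNoetherian_proper (X := X) k
  haveI : Smooth (X ↘ Spec (CommRingCat.of k)) := SmoothOfRelativeDimension.smooth n _
  haveI : IsIntegral X := SmoothWeil.isIntegral_of_smooth_connected (X ↘ Spec (CommRingCat.of k))
  haveI : QuasiSeparated (X ↘ Spec (CommRingCat.of k)) := by rw [← hι]; infer_instance
  have hinv : PicF.IsInvertible Ω :=
    SeesawVB.isInvertible_of_isExtPow hΩ (SeesawVB.exists_frame_omega (X ↘ Spec (CommRingCat.of k)) n)
  haveI : HasExt.{u} X.Modules := inferInstance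
  haveI : DCoh.HasSheafHom Ω := DefExtLib.hasSheafHom Ω
  haveI : ModSite.HasSheafHom (O := X.sheaf) Ω := ModTensor.hasSheafHom (O := X.sheaf) Ω
  obtain ⟨e⟩ := nonempty_dual_hF ι hι hΩ (CurveLib.isFinLocFree_of_isInvertible hinv) (le_refl n)
  rw [Nat.sub_self] at e
  haveI : Module.Finite k (Coh.HH X Ω n) := EulerIneqLib.finite_HH (k := k) (isCoh_topForms ι hι hΩ) n
  let η : Coh.structureModule X ⟶ (StalkHomLib.hF Ω).obj (tmod (Coh.structureModule X) Ω) :=
    (ModSite.sheafHomAdj (O := X.sheaf) Ω).unit.app _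
  haveI : IsIso η := isIso_unit_invertible hinv _
  obtain ⟨ψ⟩ := nonempty_sheafHom_iso Ω Ω
  let u : Coh.structureModule X ≅ (DCoh.sheafHom Ω).obj Ω :=
    asIso η ≪≫ (StalkHomLib.hF Ω).mapIso (CurveLib.tmodComm _ _ ≪≫ DCohLib.tensorStructureIso Ω) ≪≫ ψ
  rw [← Subspace.dual_finrank_eq, e.finrank_eq,
    ← (LinearEquiv.ofBijective _ (CurveLib.hMap_bijective_iso (k := k) u 0)).finrank_eq]
  exact CurveLib.finrank_H0_structure

end Groth.Agent.FundLocIsoLib
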