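import Groth.Agent.FundLocIsoLib.Moves
import Groth.Agent.EtAlgEasy.ConormalStalk
import Groth.Agent.DegDevLib.Frame
import Groth.Prelude.Def_Omega2
import Groth.Prelude.Def_RegImm
import Mathlib.RingTheory.Regular.Flat

/-!
# The conormal sheaf along regular generators
-/

set_option autoImplicit false
set_option backward.isDefEq.respectTransparency false
set_option linter.style.haveILetI false
set_option maxHeartbeats 800000

universe u

open CategoryTheory CategoryTheory.Limits AlgebraicGeometry TopologicalSpace Opposite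
open Groth.Agent.PullbackMod Groth.Agent.DCohLib
open scoped Pointwise

noncomputable section

namespace Groth.Agent.FundLocIsoLib

/-- Relations between the elements of a regular sequence have coefficients in the ideal. -/
theorem coeff_mem_of_relation {S : Type u} [CommRing S] : ∀ {n : ℕ} (f a : Fin n → S),
    Reg (List.ofFn f) → ∑ i, a i * f i = 0 → ∀ i, a i ∈ Ideal.span (Set.range f)
  | 0, _, _, _, _ => fun i => i.elim0
  | n + 1, f, a, hf, h => by
    rw [List.ofFn_succ] at hf
    rw [Fin.sum_univ_succ] at h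
    let g : Fin n → S := fun j => f j.succ
    have hg : Ideal.ofList (List.ofFn g) = Ideal.span (Set.range g) :=
      congrArg Ideal.span (Set.ext fun x => List.mem_ofFn)
    have hle : Ideal.span (Set.range g) ≤ Ideal.span (Set.range f) :=
      Ideal.span_mono (by rintro _ ⟨j, rfl⟩; exact ⟨j.succ, rfl⟩)
    have h0 : a 0 ∈ Ideal.span (Set.range g) := by
      have hmem : a 0 * f 0 ∈ Ideal.span (Set.range g) := by
        rw [eq_neg_of_add_eq_zero_left h]
        exact neg_mem (sum_mem fun j _ => Ideal.mul_mem_left _ _ (Ideal.subset_span ⟨j, rfl⟩))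
      rw [← hg, ← Ideal.Quotient.eq_zero_iff_mem]
      refine hf.1.right_eq_zero_of_smul ?_
      rw [← hg, ← Ideal.Quotient.eq_zero_iff_mem] at hmem
      rw [← hmem, Algebra.smul_def, Ideal.Quotient.algebraMap_eq, ← map_mul, mul_comm]
    obtain ⟨b, hb⟩ := Ideal.mem_span_range_iff_exists_fun.1 h0
    have h1 := coeff_mem_of_relation g (fun j => a j.succ + b j * f 0) hf.2 (by
      rw [← h, ← hb, Finset.sum_mul, ← Finset.sum_add_distrib]
      exact Finset.sum_congr rfl fun j _ => by ring)
    intro i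
    refine Fin.cases (hle h0) (fun j => ?_) i
    have e : a j.succ = (a j.succ + b j * f 0) - b j * f 0 := by ring
    rw [e]
    exact sub_mem (hle (h1 j)) (Ideal.mul_mem_left _ _ (Ideal.subset_span ⟨0, rfl⟩))

variable {P X : Scheme.{u}} (ι : X ⟶ P) [IsClosedImmersion ι]

/-- An affine open of `P` on which the ideal of `X` has regular generators. -/
structure Chart (r : ℕ) where
  U : P.Opens
  affine : IsAffineOpen U
  g : Fin r → Γ(P, U)
  regular : RingTheory.Sequence.IsWeaklyRegular Γ(P, U) (List.ofFn g).reverse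
  ker : RingHom.ker (ι.app U).hom = Ideal.span (Set.range g)

theorem exists_chart_of_seq {U : P.affineOpens} (rs : List Γ(P, U.1))
    (hseq : RingTheory.Sequence.IsWeaklyRegular Γ(P, U.1) rs) (hker : RingHom.ker (ι.app U.1).hom = Ideal.ofList rs) :
    ∃ c : Chart ι rs.length, c.U = U.1 := by
  refine ⟨⟨U.1, U.2, fun i => rs[rs.length - 1 - (i : ℕ)]'(by omega), ?_, ?_⟩, rfl⟩
  · have e : (List.ofFn fun i : Fin rs.length => rs[rs.length - 1 - (i : ℕ)]'(by omega)).reverse = rs := by
      apply List.reverse_injective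
      rw [List.reverse_reverse]
      apply List.ext_getElem (by simp)
      intro i h1 h2
      simp [List.getElem_reverse]
    rw [e]
    exact hseq
  · rw [hker]
    refine congrArg Ideal.span (Set.ext fun a => ⟨fun ha => ?_, ?_⟩)
    · obtain ⟨i, hi, rfl⟩ := List.mem_iff_getElem.1 ha
      refine ⟨⟨rs.length - 1 - i, by omega⟩, ?_⟩
      show rs[rs.length - 1 - (rs.length - 1 - i)]'(by omega) = rs[i]
      congr 1
      omega
    · rintro ⟨i, rfl⟩
      exact List.getElem_mem _

theorem exists_chart {r : ℕ} (hι : RegImm.IsRegularImmersionOfCodim RegImm.Kind.regular r ι) (x : X) :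
    ∃ c : Chart ι r, ι x ∈ c.U := by
  obtain ⟨U, hx, -, rs, hlen, hseq, hker⟩ := hι.2 x
  subst hlen
  obtain ⟨c, hc⟩ := exists_chart_of_seq ι rs (show RingTheory.Sequence.IsRegular _ _ from hseq).toIsWeaklyRegular hker
  exact ⟨c, by rw [hc]; exact hx⟩

variable {ι} {r : ℕ} (c : Chart ι r) (y : X) (hy : ι y ∈ c.U)

/-- The germs of the generators. -/
def Chart.gens : Fin r → P.presheaf.stalk (ι y) := fun i => P.presheaf.germ c.U (ι y) hy (c.g i)

theorem Chart.ker_stalk : RingHom.ker (ι.stalkMap y).hom = Ideal.span (Set.range (c.gens y hy)) := by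
  rw [RegIdealLib.ker_stalkMap ι c.affine (IsZariskiLocalAtTarget.restrict (P := @IsClosedImmersion) inferInstance c.U) y hy,
    c.ker, Ideal.map_span, ← Set.range_comp]
  rfl

theorem Chart.ofList_gens : Ideal.ofList (List.ofFn (c.gens y hy)) = RingHom.ker (ι.stalkMap y).hom := by
  rw [c.ker_stalk y hy]
  exact congrArg Ideal.span (Set.ext fun x => List.mem_ofFn)

theorem Chart.gens_mem (i : Fin r) : c.gens y hy i ∈ RingHom.ker (ι.stalkMap y).hom := by
  rw [c.ker_stalk y hy]
  exact Ideal.subset_span ⟨i, rfl⟩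

theorem Chart.isRegular_gens : RingTheory.Sequence.IsRegular (P.presheaf.stalk (ι y)) (List.ofFn (c.gens y hy)).reverse := by
  letI : Algebra Γ(P, c.U) (P.presheaf.stalk (ι y)) := TopCat.Presheaf.algebra_section_stalk P.presheaf ⟨ι y, hy⟩
  haveI := c.affine.isLocalization_stalk ⟨ι y, hy⟩
  haveI : Module.Flat Γ(P, c.U) (P.presheaf.stalk (ι y)) :=
    IsLocalization.flat _ (c.affine.primeIdealOf ⟨ι y, hy⟩).asIdeal.primeCompl
  have h := c.regular.of_flat (S := P.presheaf.stalk (ι y))
  have e : ((List.ofFn c.g).reverse.map (algebraMap Γ(P, c.U) (P.presheaf.stalk (ι y)))) =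
      (List.ofFn (c.gens y hy)).reverse := by
    rw [List.map_reverse, List.map_ofFn]
    rfl
  rw [e] at h
  refine ⟨h, fun he => ?_⟩
  have h1 : Ideal.ofList (List.ofFn (c.gens y hy)).reverse = RingHom.ker (ι.stalkMap y).hom :=
    (ofList_reverse _).trans (c.ofList_gens y hy)
  rw [smul_eq_mul, Ideal.mul_top, h1] at he
  exact RingHom.ker_ne_top _ he.symm

theorem Chart.reg_gens : Reg (List.ofFn (c.gens y hy)) :=
  reg_of_isWeaklyRegular (c.isRegular_gens y hy).toIsWeaklyRegular

omit c hy
variable (ι)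

/-- The class in the conormal stalk of an element of the ideal. -/
def cls (a : P.presheaf.stalk (ι y)) : (Omega.conormal ι).presheaf.stalk y :=
  open Classical in
  if h : ∃ m, (EtAlgEasy.GrMapStalk.exists_toFn ι.ker (ι y)).choose m = a then
    pullStalk ι (ClSub.idealMod ι.ker) y h.choose
  else 0

theorem cls_toFn (m : (ClSub.idealMod ι.ker).presheaf.stalk (ι y)) :
    cls ι y ((EtAlgEasy.GrMapStalk.exists_toFn ι.ker (ι y)).choose m) = pullStalk ι (ClSub.idealMod ι.ker) y m := by
  have h : ∃ m', (EtAlgEasy.GrMapStalk.exists_toFn ι.ker (ι y)).choose m' =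
      (EtAlgEasy.GrMapStalk.exists_toFn ι.ker (ι y)).choose m := ⟨m, rfl⟩
  rw [cls, dif_pos h]
  exact congrArg _ ((EtAlgEasy.GrMapStalk.exists_toFn ι.ker (ι y)).choose_spec.1 h.choose_spec)

theorem exists_toFn_eq {a : P.presheaf.stalk (ι y)} (ha : ι.stalkMap y a = 0) :
    ∃ m, (EtAlgEasy.GrMapStalk.exists_toFn ι.ker (ι y)).choose m = a := by
  rw [← LinearMap.mem_range, (EtAlgEasy.GrMapStalk.exists_toFn ι.ker (ι y)).choose_spec.2.1,
    EtAlgEasy.ConormalStalk.stalkIdeal_ker]
  exact ha

theorem cls_add {a b : P.presheaf.stalk (ι y)} (ha : ι.stalkMap y a = 0) (hb : ι.stalkMap y b = 0) :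
    cls ι y (a + b) = cls ι y a + cls ι y b := by
  obtain ⟨m, rfl⟩ := exists_toFn_eq ι y ha
  obtain ⟨n, rfl⟩ := exists_toFn_eq ι y hb
  rw [← map_add, cls_toFn, cls_toFn, cls_toFn, map_add]

theorem cls_mul (s : P.presheaf.stalk (ι y)) {a : P.presheaf.stalk (ι y)} (ha : ι.stalkMap y a = 0) :
    cls ι y (s * a) = ι.stalkMap y s • cls ι y a := by
  obtain ⟨m, rfl⟩ := exists_toFn_eq ι y ha
  rw [← smul_eq_mul, ← map_smul, cls_toFn, cls_toFn, pullStalk_smul]

theorem cls_zero : cls ι y 0 = 0 := by
  conv_lhs => rw [← map_zero (EtAlgEasy.GrMapStalk.exists_toFn ι.ker (ι y)).choose]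
  rw [cls_toFn, map_zero]

variable {ι}
include c hy

/-- The classes of the generators form a basis of the conormal stalk. -/
theorem Chart.bijective_cls : Function.Bijective
    (Fintype.linearCombination (X.presheaf.stalk y) fun i => cls ι y (c.gens y hy i)) := by
  classical
  let S := P.presheaf.stalk (ι y)
  let M := ClSub.idealMod ι.ker
  let e := (EtAlgEasy.GrMapStalk.exists_toFn ι.ker (ι y)).choose
  obtain ⟨heinj, herange', -⟩ := (EtAlgEasy.GrMapStalk.exists_toFn ι.ker (ι y)).choose_spec
  have herange : LinearMap.range e = RingHom.ker (ι.stalkMap y).hom :=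
    herange'.trans (EtAlgEasy.ConormalStalk.stalkIdeal_ker ι y)
  letI : Algebra S (X.presheaf.stalk y) := (ι.stalkMap y).hom.toAlgebra
  let N : Type u := ((Scheme.Modules.pullback ι).obj M).presheaf.stalk y
  letI : Module S N := Module.compHom N (ι.stalkMap y).hom
  haveI : IsScalarTower S (X.presheaf.stalk y) N := .of_algebraMap_smul fun _ _ => rfl
  let l : M.presheaf.stalk (ι y) →ₗ[S] N := pullStalkL ι M y
  have hl : IsBaseChange (X.presheaf.stalk y) l := isBaseChange_pullStalkL' ι M y
  obtain ⟨hsurj, hker⟩ := ConormalLib.surjective_and_eq_zero_iff (A := S) (B := X.presheaf.stalk y)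
    (ι.stalkMap_surjective y) hl
  let K := RingHom.ker (ι.stalkMap y).hom
  have hg : ∀ i, ι.stalkMap y (c.gens y hy i) = 0 := fun i => RingHom.mem_ker.1 (c.gens_mem y hy i)
  -- combinations as classes
  have hcomb : ∀ a : Fin r → S, cls ι y (∑ i, a i * c.gens y hy i) = ∑ i, ι.stalkMap y (a i) • cls ι y (c.gens y hy i) ∧
      ι.stalkMap y (∑ i, a i * c.gens y hy i) = 0 := by
    intro a
    have : ∀ s : Finset (Fin r), cls ι y (∑ i ∈ s, a i * c.gens y hy i) = ∑ i ∈ s, ι.stalkMap y (a i) • cls ι y (c.gens y hy i) ∧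
        ι.stalkMap y (∑ i ∈ s, a i * c.gens y hy i) = 0 := by
      intro s
      induction s using Finset.induction with
      | empty => simp [cls_zero]
      | @insert i s hi ih =>
        have h1 : ι.stalkMap y (a i * c.gens y hy i) = 0 := by rw [map_mul, hg, mul_zero]
        rw [Finset.sum_insert hi, Finset.sum_insert hi, cls_add ι y h1 ih.2, cls_mul ι y _ (hg i), ih.1, map_add, h1,
          ih.2, add_zero]
        exact ⟨rfl, rfl⟩
    exact this Finset.univ
  refine ⟨(injective_iff_map_eq_zero _).2 fun b hb => ?_, fun z => ?_⟩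
  · choose a ha using fun i => ι.stalkMap_surjective y (b i)
    obtain ⟨hc1, hc2⟩ := hcomb a
    obtain ⟨m, hm⟩ := exists_toFn_eq ι y hc2
    have h0 : l m = 0 := by
      show pullStalk ι M y m = 0
      rw [← cls_toFn, hm, hc1, ← hb, Fintype.linearCombination_apply]
      simp only [ha]
    have h2 : e m ∈ K * K := by
      have h3 : e m ∈ ((K • (⊤ : Submodule S (M.presheaf.stalk (ι y)))).map e) := ⟨m, (hker m).1 h0, rfl⟩
      rwa [Submodule.map_smul'', Submodule.map_top, herange, smul_eq_mul] at h3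
    have hK : K = Ideal.span (Set.range (c.gens y hy)) := c.ker_stalk y hy
    rw [show e m = ∑ i, a i * c.gens y hy i from hm] at h2
    -- write the element with coefficients in the ideal
    have h4 : ∀ z ∈ K * K, ∃ d : Fin r → S, (∀ i, d i ∈ K) ∧ ∑ i, d i * c.gens y hy i = z := by
      intro z hz
      refine Submodule.mul_induction_on hz (fun u hu v hv => ?_) fun u v hu hv => ?_
      · rw [hK] at hv
        obtain ⟨d, hd⟩ := Ideal.mem_span_range_iff_exists_fun.1 hv
        refine ⟨fun i => u * d i, fun i => Ideal.mul_mem_right _ _ hu, ?_⟩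
        rw [← hd, Finset.mul_sum]
        exact Finset.sum_congr rfl fun i _ => mul_assoc _ _ _
      · obtain ⟨d, hd, rfl⟩ := hu
        obtain ⟨d', hd', rfl⟩ := hv
        exact ⟨d + d', fun i => add_mem (hd i) (hd' i), by simp [add_mul, Finset.sum_add_distrib]⟩
    obtain ⟨d, hd, hde⟩ := h4 _ h2
    funext i
    have h5 : a i - d i ∈ K := by
      rw [hK]
      exact coeff_mem_of_relation (c.gens y hy) (fun i => a i - d i) (c.reg_gens y hy) (by
        simp only [sub_mul, Finset.sum_sub_distrib, hde, sub_self]) i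
    rw [← ha, Pi.zero_apply, ← sub_add_cancel (a i) (d i), map_add, RingHom.mem_ker.1 h5, RingHom.mem_ker.1 (hd i),
      add_zero]
  · obtain ⟨m, rfl⟩ := hsurj z
    have hm : e m ∈ Ideal.span (Set.range (c.gens y hy)) := by
      rw [← c.ker_stalk y hy, ← herange]
      exact LinearMap.mem_range_self e m
    obtain ⟨a, ha⟩ := Ideal.mem_span_range_iff_exists_fun.1 hm
    refine ⟨fun i => ι.stalkMap y (a i), ?_⟩
    rw [Fintype.linearCombination_apply, ← (hcomb a).1, ha]
    exact cls_toFn ι y m

omit y hy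

/-- A section of the ideal with a given generator. -/
def Chart.idealGen (i : Fin r) : Γ(ClSub.idealMod ι.ker, c.U) :=
  (ConormalLib.exists_idealSect_eq ι c.U (c.g i) (RingHom.mem_ker.1 (c.ker ▸ Ideal.subset_span ⟨i, rfl⟩))).choose

/-- The conormal sections of the generators. -/
def Chart.sectC (i : Fin r) : Γ(Omega.conormal ι, ι ⁻¹ᵁ c.U) :=
  pullMap ι (ClSub.idealMod ι.ker) le_rfl (c.idealGen i)

theorem Chart.germ_sectC (i : Fin r) (y : X) (hy : ι y ∈ c.U) :
    (Omega.conormal ι).presheaf.germ (ι ⁻¹ᵁ c.U) y hy (c.sectC i) = cls ι y (c.gens y hy i) := by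
  refine (pullStalk_germ' ι (ClSub.idealMod ι.ker) y hy hy le_rfl (c.idealGen i)).symm.trans ?_
  rw [← cls_toFn]
  refine congrArg _ (((EtAlgEasy.GrMapStalk.exists_toFn ι.ker (ι y)).choose_spec.2.2 _ hy _).trans ?_)
  exact congrArg (P.presheaf.germ c.U (ι y) hy) (ConormalLib.exists_idealSect_eq ι c.U (c.g i) (RingHom.mem_ker.1 (c.ker ▸ Ideal.subset_span ⟨i, rfl⟩))).choose_spec

theorem Chart.isFrame_sectC :
    DegDevLib.IsFrame (E := Omega.conormal ι) (ι ⁻¹ᵁ c.U) c.sectC := fun y hy => by
  simp only [c.germ_sectC]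
  exact c.bijective_cls y hy

end Groth.Agent.FundLocIsoLib
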