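import Groth.Agent.FundLocIsoLib.DetSes
import Groth.Agent.FundLocIsoLib.Frames
import Groth.Agent.SeesawVB.TrivFibres
import Groth.Agent.GrpOmega.Basic
import Groth.Agent.S9370
import Groth.Agent.S1488
import Groth.Agent.EtAlgEasy.OmegaSmooth
import Groth.Agent.EtAlgEasy.OmegaSeq
import Groth.Agent.SyntRegLib.Main
import Groth.Agent.CILib.CIMorphism
import Groth.Agent.S5021
import Groth.Agent.KVbLib.PullExt
import Groth.Agent.CurveLib.DegTensor

/-!
# The adjunction formula for a closed immersion of smooth schemes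
-/

set_option autoImplicit false
set_option backward.isDefEq.respectTransparency false
set_option linter.style.haveILetI false
set_option linter.unusedSectionVars false
set_option maxHeartbeats 1000000

universe u

open CategoryTheory CategoryTheory.Limits AlgebraicGeometry TopologicalSpace Opposite
open Groth.Agent.PullbackMod Groth.Agent.DCohLib

noncomputable section

namespace Groth.Agent.FundLocIsoLib

/-- The dimensions of a split extension of free modules add up. -/
theorem rank_add {R A B C : Type u} [CommRing R] [Nontrivial R] [AddCommGroup A] [Module R A] [AddCommGroup B]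
    [Module R B] [AddCommGroup C] [Module R C] (f : A →ₗ[R] B) (g : B →ₗ[R] C) (hf : Function.Injective f)
    (hex : Function.Exact f g) (hg : Function.Surjective g) {a b c : ℕ} (ea : A ≃ₗ[R] (Fin a → R))
    (eb : B ≃ₗ[R] (Fin b → R)) (ec : C ≃ₗ[R] (Fin c → R)) : a + c = b := by
  haveI : Module.Free R A := Module.Free.of_equiv ea.symm
  haveI : Module.Free R C := Module.Free.of_equiv ec.symm
  haveI : Module.Finite R A := Module.Finite.equiv ea.symm
  haveI : Module.Finite R C := Module.Finite.equiv ec.symm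
  obtain ⟨s, hs⟩ := Module.projective_lifting_property g (LinearMap.id : C →ₗ[R] C) hg
  let l : (A × C) →ₗ[R] B := LinearMap.coprod f s
  have hgf : ∀ x, g (f x) = 0 := fun x => hex.apply_apply_eq_zero x
  have hgs : ∀ x, g (s x) = x := fun x => LinearMap.congr_fun hs x
  have hl : Function.Bijective l := by
    refine ⟨(injective_iff_map_eq_zero _).2 fun z hz => ?_, fun y => ?_⟩
    · simp only [l, LinearMap.coprod_apply] at hz
      have h2 : z.2 = 0 := by
        have := congrArg g hz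
        rwa [map_add, hgf, hgs, zero_add, map_zero] at this
      rw [h2, map_zero, add_zero] at hz
      exact Prod.ext (hf (hz.trans (map_zero f).symm)) h2
    · obtain ⟨x, hx⟩ := (hex (y - s (g y))).1 (by rw [map_sub, hgs, sub_self])
      exact ⟨(x, g y), by simp only [l, LinearMap.coprod_apply, hx, sub_add_cancel]⟩
  have h := ((LinearEquiv.ofBijective l hl).trans eb).finrank_eq
  rw [Module.finrank_prod, ea.finrank_eq, ec.finrank_eq, Module.finrank_fin_fun, Module.finrank_fin_fun,
    Module.finrank_fin_fun] at h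
  exact h

/-- The stalk of a module with a frame is free. -/
def stalkFree {X : Scheme.{u}} {E : X.Modules} {n : ℕ} {U : X.Opens} {s : Fin n → Γ(E, U)}
    (hs : DegDevLib.IsFrame U s) {x : X} (hx : x ∈ U) :
    E.presheaf.stalk x ≃ₗ[X.presheaf.stalk x] (Fin n → X.presheaf.stalk x) :=
  (LinearEquiv.ofBijective _ (hs x hx)).symm

variable {S P X : Scheme.{u}} (p : P ⟶ S) (g : X ⟶ S) (ι : X ⟶ P) [IsClosedImmersion ι] (n m : ℕ)
  [SmoothOfRelativeDimension n p] [SmoothOfRelativeDimension m g] [QuasiSeparated p] [QuasiSeparated g]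

include n m in
theorem isRegularImmersion_of_smooth (hι : ι ≫ p = g) : RegImm.IsRegularImmersion RegImm.Kind.regular ι := by
  haveI : Smooth p := SmoothOfRelativeDimension.smooth n p
  haveI : Smooth (ι ≫ p) := hι ▸ SmoothOfRelativeDimension.smooth m g
  exact SyntRegLib.isRegularImmersion_of_smooth ι p
    ((CILib.isCIMorphism_iff_isSyntomicMor _).2 (CILib.isSyntomicMor_of_smooth _))

/-- The conormal sequence of a closed immersion of smooth schemes, and the rank of the conormal sheaf. -/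
theorem exists_conormal_sequence (hι : ι ≫ p = g) :
    ∃ (φ : Omega.conormal ι ⟶ (Scheme.Modules.pullback ι).obj (Omega.sheaf p))
      (c : (Scheme.Modules.pullback ι).obj (Omega.sheaf p) ⟶ Omega.sheaf g) (w : φ ≫ c = 0),
      (ShortComplex.mk φ c w).ShortExact ∧ FlatMod.IsFinLocFree (Omega.conormal ι) ∧
      ∀ x : X, ∃ (U : X.Opens) (a : ℕ) (s : Fin a → Γ(Omega.conormal ι, U)),
        x ∈ U ∧ DegDevLib.IsFrame U s ∧ a + m = n := by
  subst hι
  haveI : Smooth p := SmoothOfRelativeDimension.smooth n p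
  haveI : Smooth (ι ≫ p) := SmoothOfRelativeDimension.smooth m (ι ≫ p)
  have hP := OmegaUnivLib.isUniversal_dOmega p
  have hX := OmegaUnivLib.isUniversal_dOmega (ι ≫ p)
  obtain ⟨φ, hφ⟩ := GrpOmega.exists_conormalDiff ι (OmegaSh.dOmega p)
  obtain ⟨c, hc, -⟩ := Groth.Agent.S9370.result p (ι ≫ p) ι (𝟙 S) (Category.comp_id _) _ _ hP _ _ hX
  obtain ⟨w, hepi, hex⟩ := EtAlgEasy.OmegaSeq.exact_immersion ι p hP hX c hc φ hφ
  have hfs : MoreMor.IsFormallySmoothHom (ι ≫ p) := ((Groth.Agent.S1488.result (ι ≫ p)).1 inferInstance).2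
  haveI : Mono φ := EtAlgEasy.OmegaSmooth.mono_conormalDiff ι p hfs hP φ hφ
  haveI := hepi
  have hT : (ShortComplex.mk φ c w).ShortExact := { exact := hex }
  have hC : FlatMod.IsFinLocFree (Omega.conormal ι) := fun x => by
    obtain ⟨U, k, hxU, ⟨e⟩, -⟩ := Groth.Agent.S5021.result p ι x
    exact ⟨U, k, hxU, ⟨e⟩⟩
  refine ⟨φ, c, w, hT, hC, fun x => ?_⟩
  obtain ⟨U, a, s, hxU, hs⟩ := SeesawVB.exists_frame_at hC x
  refine ⟨U, a, s, hxU, hs, ?_⟩
  obtain ⟨U₁, s₁, hx₁, hs₁⟩ := SeesawVB.exists_frame_omega (ι ≫ p) m x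
  obtain ⟨U₂, s₂, hx₂, hs₂⟩ := SeesawVB.exists_frame_omega p n (ι x)
  haveI := (isQCoh_and_isFP_of_isFinLocFree _ (InfLiftLib.isFinLocFree_omega p)).1
  have hs₂' := SeesawVB.isFrame_pullMap ι hs₂ (le_refl (ι ⁻¹ᵁ U₂))
  haveI : Mono (ShortComplex.mk φ c w).f := hT.mono_f
  refine rank_add (stalkLin φ x) (stalkLin c x) ((mono_iff_stalk φ).1 inferInstance x) ?_
    ((epi_iff_stalk c).1 inferInstance x) (stalkFree hs hxU) (stalkFree hs₂' hx₂) (stalkFree hs₁ hx₁)
  haveI : Epi (ShortComplex.mk φ c w).g := hepi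
  exact DCohLib.exact_stalkLin (ShortComplex.mk φ c w) hex x

/-- A closed immersion of smooth schemes is regular of the complementary codimension. -/
theorem isRegularImmersionOfCodim_of_smooth (hι : ι ≫ p = g) :
    RegImm.IsRegularImmersionOfCodim RegImm.Kind.regular (n - m) ι := by
  have hreg := isRegularImmersion_of_smooth p g ι n m hι
  obtain ⟨-, -, -, -, -, hrank⟩ := exists_conormal_sequence p g ι n m hι
  refine ⟨hreg.1, fun z => ?_⟩
  obtain ⟨U, hz, hcl, rs, hrs, hker⟩ := hreg.2 z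
  refine ⟨U, hz, hcl, rs, ?_, hrs, hker⟩
  obtain ⟨c, hc⟩ := exists_chart_of_seq ι rs (show RingTheory.Sequence.IsRegular _ _ from hrs).toIsWeaklyRegular hker
  obtain ⟨V, a, s, hzV, hs, ha⟩ := hrank z
  have hzc : z ∈ ι ⁻¹ᵁ c.U := by
    show ι z ∈ c.U
    rw [hc]
    exact hz
  haveI : Nontrivial (X.presheaf.stalk z) := inferInstance
  have h := ((stalkFree c.isFrame_sectC hzc).symm.trans (stalkFree hs hzV)).finrank_eq
  rw [Module.finrank_fin_fun, Module.finrank_fin_fun] at h
  omega

/-- The adjunction formula. -/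
theorem nonempty_topForms_iso (hι : ι ≫ p = g) {ωP : P.Modules} (hωP : ExtPow.IsExtPow n (Omega.sheaf p) ωP)
    {ωX : X.Modules} (hωX : ExtPow.IsExtPow m (Omega.sheaf g) ωX)
    {L : X.Modules} (hL : ExtPow.IsExtPow (n - m) (Omega.conormal ι) L) :
    Nonempty ((Scheme.Modules.pullback ι).obj ωP ≅ tmod ωX L) := by
  haveI : Smooth p := SmoothOfRelativeDimension.smooth n p
  haveI : Smooth g := SmoothOfRelativeDimension.smooth m g
  rcases isEmpty_or_nonempty X with hX | ⟨⟨x₀⟩⟩
  · exact ⟨@asIso _ _ _ _ (0 : _ ⟶ _) ((isIso_iff_stalk _).2 fun x => hX.elim x)⟩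
  obtain ⟨φ, c, w, hT, hC, hrank⟩ := exists_conormal_sequence p g ι n m hι
  obtain ⟨-, a, -, -, -, ha⟩ := hrank x₀
  have hfr : ∀ x : X, ∃ (U : X.Opens) (s : Fin (n - m) → Γ(Omega.conormal ι, U)), x ∈ U ∧ DegDevLib.IsFrame U s :=
    fun x => by
      obtain ⟨U, a', s, hxU, hs, ha'⟩ := hrank x
      obtain rfl : a' = n - m := by omega
      exact ⟨U, s, hxU, hs⟩
  have hΩP := InfLiftLib.isFinLocFree_omega p
  have hωP' : ExtPow.IsExtPow n ((Scheme.Modules.pullback ι).obj (Omega.sheaf p)) ((Scheme.Modules.pullback ι).obj ωP) :=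
    haveI := (isQCoh_and_isFP_of_isFinLocFree _ hΩP).1
    KVb.isExtPow_pullback ι hωP
  obtain ⟨e⟩ := nonempty_det_iso hT hC (isFinLocFree_pullback ι _ hΩP) (InfLiftLib.isFinLocFree_omega g)
    (a := n - m) (c := m) (n := n) (by omega) hfr (SeesawVB.exists_frame_omega g m) hL hωP' hωX
  exact ⟨e.symm ≪≫ CurveLib.tmodComm L ωX⟩

end Groth.Agent.FundLocIsoLib
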