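import Groth.Agent.FundLocIsoLib.Main
import Groth.Agent.ProjSerreLib.DualExist
import Groth.Agent.ProjSerreLib.CMDual
import Groth.Agent.ProjSerreLib.Twists
import Groth.Agent.CILib.Regular
import Groth.Agent.RegIdealLib.Immersion
import Groth.Agent.DCohLib.Assoc
import Groth.Agent.AmpleEmb.Inverse
import Groth.Agent.JacEquidimLib.Basic
import Groth.Agent.SeesawVB.TrivFibres
import Groth.Agent.S10881

/-!
# Dualizing sheaves of local complete intersections in projective space
-/

set_option autoImplicit false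
set_option backward.isDefEq.respectTransparency false
set_option linter.style.haveILetI false
set_option maxHeartbeats 1000000

universe u

open CategoryTheory CategoryTheory.Limits AlgebraicGeometry TopologicalSpace Opposite
open Groth.Agent.PullbackMod Groth.Agent.DCohLib Groth.Agent.StalkHomLib Groth.Agent.ProjSerreLib

noncomputable section

namespace Groth.Agent.FundLocIsoLib

/-- Homs out of an invertible sheaf are tensors with its inverse. -/
theorem nonempty_hF_invertible {X : Scheme.{u}} [IsLocallyNoetherian X] {C D : X.Modules} (hC : PicF.IsInvertible C)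
    (e : CohB1.tensorMod C D ≅ Coh.structureModule X) [ModSite.HasSheafHom (O := X.sheaf) C] (G : X.Modules) :
    Nonempty ((hF C).obj G ≅ tmod G D) := by
  let η : tmod G D ⟶ (hF C).obj (tmod (tmod G D) C) := (ModSite.sheafHomAdj (O := X.sheaf) C).unit.app _
  haveI : IsIso η := isIso_unit_invertible hC _
  let a : tmod (tmod G D) C ≅ G := (ModTensor.tensorAssoc X.sheaf D C).app G ≪≫
    ((DCoh.tensorBi (X := X)).obj G).mapIso (CurveLib.tmodComm D C ≪≫ e) ≪≫ DCohLib.tensorStructureIso G
  exact ⟨(asIso η ≪≫ (hF C).mapIso a).symm⟩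

variable {k : Type u} [Field k] {N r : ℕ} {X : Scheme.{u}} [X.Over (Spec (CommRingCat.of k))]
  (ι : X ⟶ CohB1.ProjSpace N k) [IsClosedImmersion ι]

/-- The local dimension of projective space at a closed point. -/
theorem ringKrullDim_stalk_projSpace (p : CohB1.ProjSpace N k) (hp : IsClosed ({p} : Set _)) :
    ringKrullDim ((CohB1.ProjSpace N k).presheaf.stalk p) = (N : WithBot ℕ∞) := by
  haveI := PicProjLib.isIntegral_projSpace (n := N) (R := k)
  refine dim_closed_point_of_equidim (CohB1.ProjSpace.toSpec N k) (S10829.result k N).le (fun Z hZ => ?_) p hp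
  rw [irreducibleComponents_eq_singleton, Set.mem_singleton_iff] at hZ
  rw [hZ, IsHomeomorph.topologicalKrullDim_eq _ (Homeomorph.Set.univ _).isHomeomorph]
  exact S10829.result k N

variable (hι : ι ≫ CohB1.ProjSpace.toSpec N k = X ↘ Spec (CommRingCat.of k)) (hr : r ≤ N)
  (heq : ∀ Z : Set ↥X, Z ∈ irreducibleComponents ↥X → topologicalKrullDim ↥Z = ((N - r : ℕ) : WithBot ℕ∞))
  (hgen : ∀ x : X, ∃ U : (CohB1.ProjSpace N k).affineOpens, ι.base x ∈ (U : (CohB1.ProjSpace N k).Opens) ∧
      ∃ f : Fin r → Γ(CohB1.ProjSpace N k, (U : (CohB1.ProjSpace N k).Opens)), ι.ker.ideal U = Ideal.span (Set.range f))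

include hι hr heq hgen in
/-- Equations in the expected number form regular sequences. -/
theorem isRegularImmersionOfCodim_lci : RegImm.IsRegularImmersionOfCodim RegImm.Kind.regular r ι := by
  haveI := CMRegLib.isNoetherian_projSpace (k := k) (n := N)
  haveI := isNoetherian_sub ι
  haveI : LocallyOfFiniteType (X ↘ Spec (CommRingCat.of k)) := by rw [← hι]; infer_instance
  haveI : JacobsonSpace X := LocallyOfFiniteType.jacobsonSpace (X ↘ Spec (CommRingCat.of k))
  refine ⟨inferInstance, fun y => ?_⟩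
  obtain ⟨x, hyx, hx⟩ := JacEquidimLib.exists_closed_specialization y
  obtain ⟨U, hxU, f, hf⟩ := hgen x
  have hc : IsClosedImmersion (ι ∣_ U.1) := IsZariskiLocalAtTarget.restrict (P := @IsClosedImmersion) inferInstance U.1
  let A := (CohB1.ProjSpace N k).presheaf.stalk (ι x)
  let γ := ((CohB1.ProjSpace N k).presheaf.germ U.1 (ι x) hxU).hom
  haveI : IsRegularLocalRing A := regular_stalk (ι x)
  haveI : LocCoh.IsCohenMacaulayLocalRing A := Groth.Agent.S10881.cm_of_regular A
  let rs : List A := List.ofFn fun i => γ (f i)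
  have hK : RingHom.ker (ι.stalkMap x).hom = Ideal.ofList rs := by
    rw [RegIdealLib.ker_stalkMap ι U.2 hc x hxU, ← Scheme.Hom.ker_apply, hf, Ideal.map_span, ← Set.range_comp]
    exact congrArg Ideal.span (Set.ext fun a => (List.mem_ofFn).symm)
  have hdX : ringKrullDim (X.presheaf.stalk x) = ((N - r : ℕ) : WithBot ℕ∞) :=
    dim_closed_point_of_equidim (X ↘ Spec (CommRingCat.of k))
      (DimFormulaLib.topologicalKrullDim_le_of_components _ fun η hη => by
        obtain ⟨C, hC, hηC⟩ : ∃ C ∈ irreducibleComponents ↥X, η ∈ C :=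
          ⟨_, irreducibleComponent_mem_irreducibleComponents η, mem_irreducibleComponent⟩
        obtain ⟨g, hg⟩ := QuasiSober.sober hC.1 (isClosed_of_mem_irreducibleComponents C hC)
        obtain rfl := hη g (hg.specializes hηC)
        rw [hg.def]
        exact (heq C hC).le) heq x hx
  have hdA : ringKrullDim A = (N : WithBot ℕ∞) := ringKrullDim_stalk_projSpace (ι x) (by
    rw [← Set.image_singleton]
    exact ι.isClosedEmbedding.isClosedMap _ hx)
  have hdQ : ringKrullDim (A ⧸ Ideal.ofList rs) = ((N - r : ℕ) : WithBot ℕ∞) := by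
    rw [← hK, ringKrullDim_eq_of_ringEquiv (RingHom.quotientKerEquivOfSurjective (ι.stalkMap_surjective x)), hdX]
  obtain ⟨hreg, -⟩ := CILib.isRegular_of_ringKrullDim_quotient_add_le rs (fun a ha =>
    IsLocalRing.le_maximalIdeal (RingHom.ker_ne_top (ι.stalkMap x).hom)
      (hK ▸ Ideal.subset_span ha)) (by
    rw [hdQ, hdA, List.length_ofFn, ← Nat.cast_add, Nat.sub_add_cancel hr])
  obtain ⟨V, -, hxV, hcV, ts, hts, hkV⟩ := RegIdealLib.exists_regular_nhd ι U.2 hc x hxU ⟨rs, hreg, hK.symm⟩
  refine ⟨V, (hyx.map ι.continuous).mem_open V.1.2 hxV, hcV, ts, ?_, hts, hkV⟩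
  letI : Algebra Γ(CohB1.ProjSpace N k, V.1) A :=
    TopCat.Presheaf.algebra_section_stalk (CohB1.ProjSpace N k).presheaf ⟨ι x, hxV⟩
  haveI := V.2.isLocalization_stalk ⟨ι x, hxV⟩
  haveI : Module.Flat Γ(CohB1.ProjSpace N k, V.1) A :=
    IsLocalization.flat _ (V.2.primeIdealOf ⟨ι x, hxV⟩).asIdeal.primeCompl
  have hk : RingHom.ker (ι.stalkMap x).hom = Ideal.ofList (ts.map (algebraMap Γ(CohB1.ProjSpace N k, V.1) A)) := by
    rw [RegIdealLib.ker_stalkMap ι V.2 hcV x hxV, hkV, Ideal.map_ofList]
    rfl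
  have hts' : RingTheory.Sequence.IsRegular A (ts.map (algebraMap Γ(CohB1.ProjSpace N k, V.1) A)) := by
    refine ⟨RingTheory.Sequence.IsWeaklyRegular.of_flat (S := A)
      (show RingTheory.Sequence.IsRegular Γ(CohB1.ProjSpace N k, V.1) ts from hts).toIsWeaklyRegular, ?_⟩
    intro htop
    rw [← hk, smul_eq_mul, Ideal.mul_top] at htop
    exact RingHom.ker_ne_top (ι.stalkMap x).hom htop.symm
  have h := ringKrullDim_add_length_eq_ringKrullDim_of_isRegular _ hts'
  rw [List.length_map, ← hk, hK, hdQ, hdA] at h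
  have : N - r + ts.length = N := by exact_mod_cast h
  omega

include hι hr heq hgen in
/-- The dualizing sheaf of a local complete intersection. -/
theorem exists_trace_lci {C : X.Modules} (hC : ExtPow.IsExtPow r (Omega.conormal ι) C) [DCoh.HasSheafHom C] :
    ∃ t : Coh.HH X (CohB1.tensorMod ((Scheme.Modules.pullback ι).obj (Twist.twistProjSpace N k (-((N : ℤ) + 1))))
        ((DCoh.sheafHom C).obj (Coh.structureModule X))) (N - r) →ₗ[k] k,
      ∀ F : X.Modules, Coh.IsCoh F → ∀ ψ : Coh.HH X F (N - r) →ₗ[k] k,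
        ∃! φ : F ⟶ (CohB1.tensorMod ((Scheme.Modules.pullback ι).obj (Twist.twistProjSpace N k (-((N : ℤ) + 1)))) ((DCoh.sheafHom C).obj (Coh.structureModule X))), ∀ x : Coh.HH X F (N - r),
          ψ x = t (Sheaf.H.map ((SheafOfModules.toSheaf X.ringCatSheaf).map φ) (N - r) x) := by
  haveI := CMRegLib.isNoetherian_projSpace (k := k) (n := N)
  haveI := isNoetherian_sub ι
  have hreg := isRegularImmersionOfCodim_lci ι hι hr heq hgen
  have hCinv : PicF.IsInvertible C := SeesawVB.isInvertible_of_isExtPow hC fun x => by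
    obtain ⟨c, hc⟩ := exists_chart ι hreg x
    exact ⟨_, _, hc, c.isFrame_sectC⟩
  obtain ⟨D, -, ⟨e⟩⟩ := AmpleEmb.exists_isInverseOf hCinv
  haveI : ModSite.HasSheafHom (O := X.sheaf) C := ModTensor.hasSheafHom (O := X.sheaf) C
  haveI : ModSite.HasSheafHom (O := (CohB1.ProjSpace N k).sheaf) (pushO ι) :=
    ModTensor.hasSheafHom (O := (CohB1.ProjSpace N k).sheaf) _
  haveI : HasInjectiveResolutions (CohB1.ProjSpace N k).Modules := inferInstance
  haveI : HasInjectiveResolutions (ModSite.Mod (CohB1.ProjSpace N k).sheaf) :=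
    ‹HasInjectiveResolutions (CohB1.ProjSpace N k).Modules›
  let G := (Scheme.Modules.pullback ι).obj (Twist.twistProjSpace N k (-((N : ℤ) + 1)))
  obtain ⟨a⟩ := nonempty_hF_invertible hCinv e G
  obtain ⟨b⟩ := nonempty_hF_invertible hCinv e (Coh.structureModule X)
  obtain ⟨ψ⟩ := nonempty_sheafHom_iso C (Coh.structureModule X)
  obtain ⟨f⟩ := nonempty_extSh_iso hreg hC (Twist.twistProjSpace N k (-((N : ℤ) + 1)))
  let u : tmod G ((DCoh.sheafHom C).obj (Coh.structureModule X)) ≅ (hF C).obj G :=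
    ((DCoh.tensorBi (X := X)).obj G).mapIso
      (ψ.symm ≪≫ b ≪≫ CurveLib.tmodComm _ _ ≪≫ DCohLib.tensorStructureIso D) ≪≫ a.symm
  refine exists_trace (Nat.sub_le N r) ι hι ?_ _ ?_
  · refine DimFormulaLib.topologicalKrullDim_le_of_components _ fun η hη => ?_
    obtain ⟨C', hC', hηC⟩ : ∃ C ∈ irreducibleComponents ↥X, η ∈ C :=
      ⟨_, irreducibleComponent_mem_irreducibleComponents η, mem_irreducibleComponent⟩
    obtain ⟨g, hg⟩ := QuasiSober.sober hC'.1 (isClosed_of_mem_irreducibleComponents C' hC')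
    obtain rfl := hη g (hg.specializes hηC)
    rw [hg.def]
    exact (heq C' hC').le
  · rw [Nat.sub_sub_self hr]
    exact ⟨(Scheme.Modules.pushforward ι).mapIso u ≪≫ f.symm⟩

end Groth.Agent.FundLocIsoLib
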