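import Groth.Agent.PicProjLib.Pic
import Groth.Agent.ProjSmoothLib.Basic
import Groth.Agent.SeesawVB.TrivFibres
import Mathlib.RingTheory.RingHom.StandardSmooth
import Groth.Agent.OmegaUnivLib.Univ
import Groth.Agent.AmpleLib.ExtendMod
import Groth.Agent.ProjBundleLib.Rel

/-!
# The top forms of projective space
-/

set_option autoImplicit false
set_option backward.isDefEq.respectTransparency false
set_option linter.style.haveILetI false
set_option linter.unusedSectionVars false
set_option maxHeartbeats 1000000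

universe u

open CategoryTheory AlgebraicGeometry TopologicalSpace Opposite
open Groth.Agent.AmpleEmb Groth.Agent.AmpleLib Groth.Agent.ParaFLib Groth.Agent.PullbackMod Groth.Agent.DCohLib
open Groth.Agent.PicProjLib

noncomputable section

namespace Groth.Agent.FundLocIsoLib

/-- An alternating map on a triangular change of a tuple. -/
theorem alternating_triangular {S M N : Type*} [CommRing S] [AddCommGroup M] [Module S M] [AddCommGroup N]
    [Module S N] {ι : Type*} [Fintype ι] [DecidableEq ι] (ψ : M [⋀^ι]→ₗ[S] N) (v u : ι → M) (a s : ι → S) (k₀ : ι)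
    (hs : s k₀ = 0) (hu : ∀ k, u k = a k • v k + s k • v k₀) : ψ u = (∏ k, a k) • ψ v := by
  have h : ∀ T : Finset ι, ψ (fun k => if k ∈ T then u k else a k • v k) = (∏ k, a k) • ψ v := by
    intro T
    induction T using Finset.induction with
    | empty =>
      simp only [Finset.notMem_empty, if_false]
      exact ψ.toMultilinearMap.map_smul_univ a v
    | @insert k T hk ih =>
      let w : ι → M := fun k => if k ∈ T then u k else a k • v k
      have e : (fun l => if l ∈ insert k T then u l else a l • v l) = Function.update w k (u k) := by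
        funext l
        by_cases hl : l = k
        · subst hl; simp
        · simp [w, hl]
      have ew : Function.update w k (a k • v k) = w := by
        funext l
        by_cases hl : l = k
        · subst hl; simp [w, hk]
        · simp [hl]
      rw [e, hu, ψ.map_update_add, ew, ih, ψ.map_update_smul, add_eq_left]
      rcases eq_or_ne k k₀ with rfl | hkk
      · rw [hs, zero_smul]
      have h0 : w k₀ = a k₀ • v k₀ := by
        simp only [w, hu, hs, zero_smul, add_zero, ite_self]
      rw [show Function.update w k (v k₀) =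
          Function.update (Function.update w k (v k₀)) k₀ (a k₀ • v k₀) from by
        conv_lhs => rw [← Function.update_eq_self k₀ (Function.update w k (v k₀))]
        rw [Function.update_of_ne hkk.symm, h0], ψ.map_update_smul,
        ψ.map_eq_zero_of_eq _ (i := k) (j := k₀) (by rw [Function.update_of_ne hkk, Function.update_self, Function.update_self]) hkk,
        smul_zero, smul_zero]
  simpa using h Finset.univ

variable (n : ℕ) (k : Type u) [CommRing k] [IsDomain k]

/-- Polynomial rings are standard smooth. -/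
theorem isStandardSmoothOfRelativeDimension_mvPolynomial :
    Algebra.IsStandardSmoothOfRelativeDimension n k (MvPolynomial (Fin n) k) := by
  haveI : Algebra.IsStandardSmooth k (MvPolynomial (Fin n) k) := by
    rw [Algebra.IsStandardSmooth.iff_exists_basis_kaehlerDifferential]
    refine ⟨inferInstance, _, KaehlerDifferential.mvPolynomialBasis k (Fin n), ?_⟩
    rintro _ ⟨i, rfl⟩
    exact ⟨MvPolynomial.X i, (KaehlerDifferential.mvPolynomialBasis_apply k (Fin n) i).symm⟩
  rw [Algebra.IsStandardSmoothOfRelativeDimension.iff_of_isStandardSmooth,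
    rank_eq_card_basis (KaehlerDifferential.mvPolynomialBasis k (Fin n)), Fintype.card_fin]

local notation "ℙ" => CohB1.ProjSpace n k
local notation "π" => CohB1.ProjSpace.toSpec n k

theorem ι_toSpec (i : Fin (n + 1)) :
    (stdOpen n k i).ι ≫ π = (stdOpen n k i).toSpecΓ ≫
      Spec.map (CommRingCat.ofHom (constAway n k i) ≫ Proj.awayToSection (CohB1.polyGrading n k) (MvPolynomial.X i)) := by
  have h : (stdOpen n k i).ι = Proj.basicOpenToSpec (CohB1.polyGrading n k) (MvPolynomial.X i) ≫ ProjMap.chart (R := k) i := by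
    show _ = _ ≫ Proj.awayι (CohB1.polyGrading n k) _ (ProjMap.X_mem i) one_pos
    rw [Proj.awayι, ← Proj.basicOpenIsoSpec_hom _ _ (ProjMap.X_mem i) one_pos, Iso.hom_inv_id_assoc]
  rw [h, Category.assoc, ProjMap.awayι_toSpec, ← Spec.map_comp, Proj.basicOpenToSpec, Category.assoc, ← Spec.map_comp]
  try rfl

/-- The constants of a chart come from the base. -/
theorem exists_appLE_const (i : Fin (n + 1)) (r : k) :
    ∃ (e : stdOpen n k i ≤ π ⁻¹ᵁ ⊤) (c : Γ(Spec (CommRingCat.of k), ⊤)),
      chartEquiv n k i (MvPolynomial.C r) = (π).appLE ⊤ (stdOpen n k i) e c := by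
  refine ⟨le_top, (Scheme.ΓSpecIso (CommRingCat.of k)).inv r, ?_⟩
  have h := (ι_toSpec n k i).symm.trans (ProjBundleLib.ι_comp_eq π (isAffineOpen_top _) (V := stdOpen n k i) le_top)
  rw [IsAffineOpen.fromSpec_top, Scheme.isoSpec_Spec_inv, ← Spec.map_comp] at h
  haveI : IsIso (stdOpen n k i).toSpecΓ := by
    rw [← (isAffineOpen_stdOpen n k i).isoSpec_hom]
    infer_instance
  rw [cancel_epi] at h
  have h3 := ConcreteCategory.congr_hom (Spec.map_injective h) r
  rw [CommRingCat.comp_apply, CommRingCat.comp_apply] at h3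
  refine Eq.trans ?_ h3
  have h4 : polyToAway n k i (MvPolynomial.C r) = constAway n k i r := by
    rw [polyToAway, MvPolynomial.eval₂Hom_C]
  exact congrArg (Proj.awayToSection (CohB1.polyGrading n k) (MvPolynomial.X i)).hom h4

instance smoothOfRelativeDimension_toSpec : SmoothOfRelativeDimension n π := by
  let 𝒰 := Proj.affineOpenCoverOfIrrelevantLESpan (CohB1.polyGrading n k)
    (fun i : Fin (n + 1) => (MvPolynomial.X i : MvPolynomial (Fin (n + 1)) k)) (m := fun _ => 1) (fun i => ProjMap.X_mem i)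
    (fun _ => one_pos) (ProjOverLib.irrelevant_eq_span n k).le
  refine IsZariskiLocalAtSource.of_openCover (P := @SmoothOfRelativeDimension n) 𝒰.openCover fun i => ?_
  show SmoothOfRelativeDimension n (ProjMap.chart (R := k) i ≫ π)
  rw [ProjMap.awayι_toSpec, ← Spec.map_comp]
  refine (HasRingHomProperty.Spec_iff (P := @SmoothOfRelativeDimension n)).2 ?_
  refine RingHom.locally_of RingHom.isStandardSmoothOfRelativeDimension_respectsIso _ ?_
  show RingHom.IsStandardSmoothOfRelativeDimension n (constAway n k i)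
  have h : constAway n k i = ((RingEquiv.ofRingHom (polyToAway n k i) (awayToPoly n k i) (polyToAway_comp n k i)
      (awayToPoly_comp n k i)).toRingHom).comp (algebraMap k (MvPolynomial (Fin n) k)) :=
    RingHom.ext fun r => (MvPolynomial.eval₂Hom_C _ _ r).symm
  rw [h]
  refine RingHom.isStandardSmoothOfRelativeDimension_respectsIso.1 _ _ ?_
  rw [RingHom.isStandardSmoothOfRelativeDimension_algebraMap]
  exact isStandardSmoothOfRelativeDimension_mvPolynomial n k

/-- The differentials of the affine coordinates. -/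
def coordForms (i : Fin (n + 1)) (l : Fin n) : Γ(Omega.sheaf π, stdOpen n k i) :=
  OmegaSh.dSect π (stdOpen n k i) (coordRatio n k i (i.succAbove l))

theorem span_coordForms (i : Fin (n + 1)) :
    Submodule.span Γ(ℙ, stdOpen n k i) (Set.range (coordForms n k i)) = ⊤ := by
  have hU : stdOpen n k i ∈ OmegaUnivLib.small π :=
    ⟨isAffineOpen_stdOpen n k i, ⊤, isAffineOpen_top _, le_top⟩
  rw [eq_top_iff, ← OmegaUnivLib.span_dSect π hU, Submodule.span_le]
  rintro _ ⟨b, rfl⟩
  obtain ⟨p, rfl⟩ := (chartEquiv n k i).surjective b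
  induction p using MvPolynomial.induction_on with
  | C r =>
    obtain ⟨e, c, hc⟩ := exists_appLE_const n k i r
    rw [hc]
    have := OmegaUnivLib.app_appLE (OmegaSh.dOmega π) ⊤ (stdOpen n k i) e c
    rw [show OmegaSh.dSect π (stdOpen n k i) _ = _ from this]
    exact zero_mem _
  | add p q hp hq =>
    rw [map_add, OmegaSh.dSect_add]
    exact add_mem hp hq
  | mul_X p l hp =>
    rw [map_mul, chartEquiv_X, OmegaSh.dSect_mul]
    exact add_mem (Submodule.smul_mem _ _ (Submodule.subset_span ⟨l, rfl⟩)) (Submodule.smul_mem _ _ hp)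

theorem isFrame_coordForms (i : Fin (n + 1)) :
    DegDevLib.IsFrame (stdOpen n k i) (coordForms n k i) := fun y hy => by
  haveI : Smooth π := SmoothOfRelativeDimension.smooth n π
  haveI := (isQCoh_and_isFP_of_isFinLocFree _ (InfLiftLib.isFinLocFree_omega π)).1
  obtain ⟨U, s, hyU, hs⟩ := SeesawVB.exists_frame_omega π n y
  let l := Fintype.linearCombination ((CohB1.ProjSpace n k).presheaf.stalk y)
    fun j => (Omega.sheaf π).presheaf.germ (stdOpen n k i) y hy (coordForms n k i j)
  have hl : Function.Surjective l := by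
    rw [← LinearMap.range_eq_top, Fintype.range_linearCombination, eq_top_iff,
      ← AmpleLib.span_germ_eq_top (Omega.sheaf π) (isAffineOpen_stdOpen n k i) hy _ (span_coordForms n k i)]
    refine Submodule.span_mono ?_
    rintro _ ⟨_, ⟨j, rfl⟩, rfl⟩
    exact ⟨j, rfl⟩
  refine ⟨?_, hl⟩
  let e := LinearEquiv.ofBijective _ (hs y hyU)
  have h : Function.Surjective (e.symm.toLinearMap ∘ₗ l) := e.symm.surjective.comp hl
  exact fun a b hab => OrzechProperty.injective_of_surjective_endomorphism _ h (congrArg e.symm hab)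

variable {n k}

/-- Top forms of projective space are `O(-n-1)`. -/
theorem hasDeg_topForms {L : (CohB1.ProjSpace n k).Modules} (hL : ExtPow.IsExtPow n (Omega.sheaf π) L) :
    HasDeg L (-((n : ℤ) + 1)) := by
  classical
  obtain ⟨φ, hφ⟩ := hL
  let Ui : Fin (n + 1) → (CohB1.ProjSpace n k).affineOpens := fun i => ⟨stdOpen n k i, isAffineOpen_stdOpen n k i⟩
  refine ⟨fun i => DegDevLib.wsec φ (Ui i) (coordForms n k i),
    fun i => DegDevLib.gen_wsec (V := Ui i) φ hφ (isFrame_coordForms n k i), fun i => ?_⟩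
  rcases eq_or_ne i 0 with rfl | hi
  · exact ⟨1, by rw [cst_one, t_self, one_zpow, _root_.mul_one, one_smul]⟩
  obtain ⟨k₀, rfl⟩ : ∃ k₀ : Fin n, k₀.succ = i := ⟨i.pred hi, Fin.succ_pred i hi⟩
  let W := stdOpen n k k₀.succ ⊓ stdOpen n k 0
  haveI : Nonempty W := ⟨⟨gen n k, gen_mem n k, gen_mem n k⟩⟩
  let W' : (CohB1.ProjSpace n k).affineOpens :=
    ⟨W, (show (CohB1.ProjSpace n k).basicOpen (coordRatio n k k₀.succ 0) = W from basicOpen_coordRatio n k _ _) ▸
      (isAffineOpen_stdOpen n k k₀.succ).basicOpen _⟩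
  have hW₁ : W ≤ stdOpen n k k₀.succ := inf_le_left
  have hW₀ : W ≤ stdOpen n k 0 := inf_le_right
  let r₁ : Fin (n + 1) → Γ(ℙ, W) := fun a => (CohB1.ProjSpace n k).presheaf.map (homOfLE hW₁).op (coordRatio n k k₀.succ a)
  let r₀ : Fin (n + 1) → Γ(ℙ, W) := fun a => (CohB1.ProjSpace n k).presheaf.map (homOfLE hW₀).op (coordRatio n k 0 a)
  have hgW : ∀ {U : (CohB1.ProjSpace n k).Opens} [Nonempty U] (h : W ≤ U) (b : Γ(ℙ, U)),
      (CohB1.ProjSpace n k).germToFunctionField W ((CohB1.ProjSpace n k).presheaf.map (homOfLE h).op b) =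
        (CohB1.ProjSpace n k).germToFunctionField U b := fun h b => TopCat.Presheaf.germ_res_apply _ _ _ _ _
  have hg₁ : ∀ a, (CohB1.ProjSpace n k).germToFunctionField W (r₁ a) = t n k k₀.succ a := fun a => hgW hW₁ _
  have hg₀ : ∀ a, (CohB1.ProjSpace n k).germToFunctionField W (r₀ a) = t n k 0 a := fun a => hgW hW₀ _
  have hinj := (CohB1.ProjSpace n k).germToFunctionField_injective W
  -- the relations between the coordinates
  have hrel : ∀ a, r₀ a = r₀ k₀.succ * r₁ a := fun a => hinj (by rw [map_mul, hg₀, hg₀, hg₁, t_mul])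
  have hone : r₀ k₀.succ * r₁ 0 = 1 := hinj (by rw [map_mul, hg₀, hg₁, map_one, t_mul, t_self])
  let D : Γ(ℙ, W) → Γ(Omega.sheaf π, W) := OmegaSh.dSect π W
  have hD : ∀ a b, D (a * b) = a • D b + b • D a := fun a b => OmegaSh.dSect_mul π W a b
  let c := r₀ k₀.succ
  have hDc : D c = (-(c * c)) • D (r₁ 0) := by
    have h1 : D 1 = 0 := by
      have := hD 1 1
      rw [mul_one, one_smul] at this
      exact add_right_cancel (this.symm.trans (zero_add _).symm)
    have h2 : c • D (r₁ 0) + r₁ 0 • D c = 0 := by rw [← hD, hone, h1]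
    calc D c = (c * r₁ 0) • D c := by rw [hone, one_smul]
      _ = c • (r₁ 0 • D c) := mul_smul _ _ _
      _ = c • (-(c • D (r₁ 0))) := by rw [eq_neg_of_add_eq_zero_right h2]
      _ = _ := by rw [smul_neg, smul_smul, neg_smul]
  -- the permutation of the frame
  have hσ' : ∀ l : Fin n, ∃ j : Fin n, k₀.succ.succAbove j = if l = k₀ then 0 else l.succ := fun l => by
    refine Fin.exists_succAbove_eq ?_
    split_ifs with h
    · exact (Fin.succ_ne_zero k₀).symm
    · exact fun e => h (Fin.succ_injective _ e)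
  choose σ hσ using hσ'
  have hσinj : Function.Injective σ := fun l l' h => by
    have := (hσ l).symm.trans ((congrArg _ h).trans (hσ l'))
    split_ifs at this with h1 h2 h2
    · rw [h1, h2]
    · exact absurd this.symm (Fin.succ_ne_zero l')
    · exact absurd this (Fin.succ_ne_zero l)
    · exact Fin.succ_injective _ this
  let τ : Equiv.Perm (Fin n) := Equiv.ofBijective σ (Finite.injective_iff_bijective.1 hσinj)
  let e : Fin n → Γ(Omega.sheaf π, W) := fun j => D (r₁ (k₀.succ.succAbove j))
  let u : Fin n → Γ(Omega.sheaf π, W) := fun l => D (r₀ ((0 : Fin (n + 1)).succAbove l))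
  let a : Fin n → Γ(ℙ, W) := fun l => if l = k₀ then -(c * c) else c
  let s : Fin n → Γ(ℙ, W) := fun l => if l = k₀ then 0 else -(r₁ l.succ * (c * c))
  have hev : ∀ l, e (σ l) = if l = k₀ then D (r₁ 0) else D (r₁ l.succ) := fun l => by
    show D (r₁ _) = _
    rw [hσ]
    split_ifs <;> rfl
  have hu : ∀ l, u l = a l • e (σ l) + s l • e (σ k₀) := fun l => by
    show D (r₀ ((0 : Fin (n + 1)).succAbove l)) = _
    rw [Fin.zero_succAbove, hev, hev, if_pos rfl]
    by_cases hl : l = k₀
    · subst hl
      simp only [a, s, if_pos rfl, zero_smul, add_zero]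
      exact hDc
    · simp only [a, s, if_neg hl]
      rw [hrel l.succ, hD, show D (r₀ k₀.succ) = (-(c * c)) • D (r₁ 0) from hDc, smul_smul, mul_neg, neg_smul]
  have hprod : ∏ l, a l = -(c ^ (n + 1)) := by
    rw [← Finset.mul_prod_erase Finset.univ a (Finset.mem_univ k₀)]
    have he : ∏ l ∈ Finset.univ.erase k₀, a l = c ^ (n - 1) := by
      rw [Finset.prod_congr rfl (fun l hl => if_neg (Finset.ne_of_mem_erase hl)), Finset.prod_const,
        Finset.card_erase_of_mem (Finset.mem_univ k₀), Finset.card_univ, Fintype.card_fin]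
    rw [he, show a k₀ = -(c * c) from if_pos rfl]
    obtain ⟨m, rfl⟩ : ∃ m, n = m + 1 := ⟨n - 1, by have := k₀.isLt; omega⟩
    simp only [Nat.add_sub_cancel]
    ring
  let ψ : Γ(Omega.sheaf π, W) [⋀^Fin n]→ₗ[Γ(ℙ, W)] Γ(L, W) :=
    (φ W').symm.toLinearMap.compAlternatingMap (exteriorPower.ιMulti Γ(ℙ, W) n)
  have hψ : ψ u = (-(c ^ (n + 1))) • ((Equiv.Perm.sign τ : ℤ) • ψ e) := by
    rw [alternating_triangular ψ (fun l => e (σ l)) u a s k₀ (if_pos rfl) hu, hprod]
    congr 1
    exact (ψ.map_perm e τ).trans (Units.smul_def _ _)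
  -- the germs at the generic point
  have hres : ∀ (j : Fin (n + 1)) (h : W ≤ stdOpen n k j),
      γ (DegDevLib.wsec φ (Ui j) (coordForms n k j)) = L.presheaf.germ W (gen n k) (gen_mem n k (W := W))
        (ψ fun l => D ((CohB1.ProjSpace n k).presheaf.map (homOfLE h).op (coordRatio n k j (j.succAbove l)))) := fun j h => by
    refine (TopCat.Presheaf.germ_res_apply L.presheaf (homOfLE h) (gen n k) (gen_mem n k (W := W)) _).symm.trans ?_
    refine congrArg (L.presheaf.germ W (gen n k) (gen_mem n k (W := W))) ((hφ (Ui j) W' h _).trans ?_)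
    refine congrArg ψ (funext fun l => ?_)
    exact (OmegaUnivLib.app_res (OmegaSh.dOmega π) (homOfLE h) _).symm
  let z : kˣ := -(Units.map (Int.castRingHom k).toMonoidHom (Equiv.Perm.sign τ))
  refine ⟨z, ?_⟩
  rw [hres 0 hW₀, hres k₀.succ hW₁]
  show L.presheaf.germ W (gen n k) _ (ψ u) = _ • L.presheaf.germ W (gen n k) _ (ψ e)
  rw [hψ, smul_comm, ← smul_assoc, germ_smul']
  congr 1
  have hc : (CohB1.ProjSpace n k).germToFunctionField W c = t n k 0 k₀.succ := hg₀ _
  have ht : t n k 0 k₀.succ = (t n k k₀.succ 0)⁻¹ := eq_inv_of_mul_eq_one_left (by rw [t_mul, t_self])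
  show (CohB1.ProjSpace n k).germToFunctionField W ((Equiv.Perm.sign τ : ℤ) • -(c ^ (n + 1))) = _
  have hz : cst n k z = -((Equiv.Perm.sign τ : ℤ) : (CohB1.ProjSpace n k).functionField) := by
    simp [cst, z]
  rw [hz, zsmul_eq_mul, map_mul, map_intCast, map_neg, map_pow, hc, ht, neg_mul, mul_neg, ← inv_zpow',
    show ((n : ℤ) + 1) = ((n + 1 : ℕ) : ℤ) by push_cast; ring, zpow_natCast]

variable [UniqueFactorizationMonoid k]

/-- The top forms of projective space. -/
theorem nonempty_topForms_iso_twist {L : (CohB1.ProjSpace n k).Modules} (hL : ExtPow.IsExtPow n (Omega.sheaf π) L) :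
    Nonempty (L ≅ Twist.twistProjSpace n k (-((n : ℤ) + 1))) := by
  have hd := hasDeg_topForms hL
  have hinv : PicF.IsInvertible L := by
    refine SeesawVB.isInvertible_of_isExtPow hL fun x => ?_
    obtain ⟨i, hi⟩ := Opens.mem_iSup.1 ((iSup_stdOpen n k).ge (Opens.mem_top x))
    exact ⟨_, _, hi, isFrame_coordForms n k i⟩
  rcases eq_or_ne n 0 with rfl | hn
  · have h0 : ∀ {M : (CohB1.ProjSpace 0 k).Modules} (hM : PicF.IsInvertible M),
        Nonempty (M ≅ Coh.structureModule (CohB1.ProjSpace 0 k)) := fun {M} hM => by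
      obtain ⟨d, g, hg, hc⟩ := exists_deg hM
      refine triv_of_hasDeg_zero ⟨g, hg, fun i => ?_⟩
      obtain rfl : i = 0 := Subsingleton.elim (α := Fin 1) i 0
      obtain ⟨r, hr⟩ := hc 0
      exact ⟨r, by simpa [t_self] using hr⟩
    obtain ⟨e⟩ := h0 hinv
    obtain ⟨e'⟩ := h0 (PicProjLib.isInvertible_twist (n := 0) (R := k) (-(((0 : ℕ) : ℤ) + 1)))
    exact ⟨e ≪≫ e'.symm⟩
  obtain ⟨d, ⟨e⟩⟩ := exists_iso_twist hinv
  have h1 := hasDeg_twist (R := k) hn (-d)
  have h2 : d = -((n : ℤ) + 1) := by
    have h3 := ((hasDeg_twist (R := k) hn d).tensor h1)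
    have h4 := (hd.of_iso e).tensor h1
    obtain ⟨v⟩ := triv_of_hasDeg_zero (by rwa [add_neg_cancel] at h3)
    have h5 := eq_zero_of_hasDeg_structureModule hn (h4.of_iso v)
    omega
  rw [h2] at e
  exact ⟨e⟩

end Groth.Agent.FundLocIsoLib
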