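import Groth.Agent.FundLocIsoLib.Main
import Groth.Agent.FundLocIsoLib.Adjunction
import Groth.Agent.DefExtLib.OmegaExt

/-!
# Top forms of a smooth subscheme as an Ext sheaf
-/

set_option autoImplicit false
set_option backward.isDefEq.respectTransparency false
set_option linter.style.haveILetI false
set_option maxHeartbeats 1000000

universe u

open CategoryTheory CategoryTheory.Limits AlgebraicGeometry TopologicalSpace Opposite
open Groth.Agent.PullbackMod Groth.Agent.DCohLib Groth.Agent.ProjSerreLib Groth.Agent.StalkHomLib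

noncomputable section

namespace Groth.Agent.FundLocIsoLib

/-- The top forms of a smooth closed subscheme of a smooth scheme are an Ext sheaf. -/
theorem nonempty_topForms_extSh {S P X : Scheme.{u}} [IsLocallyNoetherian S] (p : P ⟶ S) (g : X ⟶ S) (ι : X ⟶ P)
    [IsClosedImmersion ι] (hι : ι ≫ p = g) (n m : ℕ) [SmoothOfRelativeDimension n p] [SmoothOfRelativeDimension m g]
    {ωP : P.Modules} (hωP : ExtPow.IsExtPow n (Omega.sheaf p) ωP) {ωX : X.Modules}
    (hωX : ExtPow.IsExtPow m (Omega.sheaf g) ωX)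
    [ModSite.HasSheafHom (O := P.sheaf) (pushO ι)] [HasInjectiveResolutions (ModSite.Mod P.sheaf)] :
    Nonempty ((Scheme.Modules.pushforward ι).obj ωX ≅
      ((ModSite.extSh (O := P.sheaf) (pushO ι) (n - m)).obj ωP : P.Modules)) := by
  haveI : Smooth p := SmoothOfRelativeDimension.smooth n p
  haveI : Smooth g := SmoothOfRelativeDimension.smooth m g
  haveI : IsLocallyNoetherian P := LocallyOfFiniteType.isLocallyNoetherian p
  haveI : IsLocallyNoetherian X := LocallyOfFiniteType.isLocallyNoetherian g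
  obtain ⟨-, -, -, -, hC, hrank⟩ := exists_conormal_sequence p g ι n m hι
  haveI := (isQCoh_and_isFP_of_isFinLocFree _ hC).1
  obtain ⟨L, -, hL⟩ := ExtPowLib.exists_isExtPow (Omega.conormal ι) (n - m)
  have hfr : ∀ x : X, ∃ (U : X.Opens) (s : Fin (n - m) → Γ(Omega.conormal ι, U)), x ∈ U ∧ DegDevLib.IsFrame U s :=
    fun x => by
      obtain ⟨U, a', s, hxU, hs, ha'⟩ := hrank x
      obtain rfl : a' = n - m := by omega
      exact ⟨U, s, hxU, hs⟩
  have hLinv : PicF.IsInvertible L := SeesawVB.isInvertible_of_isExtPow hL hfr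
  haveI : ModSite.HasSheafHom (O := X.sheaf) L := ModTensor.hasSheafHom (O := X.sheaf) L
  obtain ⟨e⟩ := nonempty_topForms_iso p g ι n m hι hωP hωX hL
  obtain ⟨f⟩ := nonempty_extSh_iso (isRegularImmersionOfCodim_of_smooth p g ι n m hι) hL ωP
  let η : ωX ⟶ (hF L).obj (tmod ωX L) := (ModSite.sheafHomAdj (O := X.sheaf) L).unit.app ωX
  haveI : IsIso η := isIso_unit_invertible hLinv ωX
  exact ⟨(Scheme.Modules.pushforward ι).mapIso (asIso η ≪≫ (hF L).mapIso e.symm) ≪≫ f.symm⟩

end Groth.Agent.FundLocIsoLib
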