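import Mathlib.RingTheory.Regular.RegularSequence
import Mathlib.LinearAlgebra.ExteriorAlgebra.Basic

/-!
# Iterated connecting maps along a regular sequence

For a resolution `R` of `M` with divisible terms and a regular sequence, the cocycles killed by the sequence in the top
degree are, up to coboundaries, the iterated connecting images of `M / (l) M`.
-/

set_option autoImplicit false
set_option linter.style.haveILetI false

universe u

open scoped Pointwise

noncomputable section

namespace Groth.Agent.FundLocIsoLib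

variable {S : Type u} [CommRing S] {M : Type u} [AddCommGroup M] [Module S M]
  {R : ℕ → Type u} [∀ q, AddCommGroup (R q)] [∀ q, Module S (R q)]
  (d : ∀ q, R q →ₗ[S] R (q + 1)) (ε : M →ₗ[S] R 0)

/-- Killed by all members of the list. -/
def Kill (l : List S) {N : Type u} [AddCommGroup N] [Module S N] (v : N) : Prop := ∀ a ∈ l, a • v = 0

/-- Coboundaries of killed elements. -/
def Bd (l : List S) : ∀ q, R q → Prop
  | 0, z => z = 0
  | q + 1, z => ∃ u, Kill l u ∧ d q u = z

/-- Each element is regular modulo the later ones. -/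
def Reg : List S → Prop
  | [] => True
  | f :: l => IsSMulRegular (S ⧸ Ideal.ofList l) f ∧ Reg l

/-- A chain of lifts of `m` along the list. -/
inductive Chain : List S → M → ∀ q, R q → Prop
  | nil (m : M) : Chain [] m 0 (ε m)
  | cons {l : List S} {m : M} {q : ℕ} {z v : R q} {f : S} :
      Chain l m q z → Kill l v → f • v = z → Chain (f :: l) m (q + 1) (d q v)

/-- A resolution with divisible terms. -/
structure Res : Prop where
  inj : Function.Injective ε
  zero : ∀ m, d 0 (ε m) = 0
  exact_zero : ∀ z, d 0 z = 0 → ∃ m, ε m = z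
  dd : ∀ q (z : R q), d (q + 1) (d q z) = 0
  exact : ∀ q (z : R (q + 1)), d (q + 1) z = 0 → ∃ v, d q v = z
  div : ∀ (l : List S) (f : S), IsSMulRegular (S ⧸ Ideal.ofList l) f → ∀ (q : ℕ) (v : R q),
    Kill l v → ∃ w, Kill l w ∧ f • w = v

variable {d ε}

theorem kill_cons {N : Type u} [AddCommGroup N] [Module S N] {f : S} {l : List S} {v : N} :
    Kill (f :: l) v ↔ f • v = 0 ∧ Kill l v :=
  List.forall_mem_cons

theorem Kill.sub {N : Type u} [AddCommGroup N] [Module S N] {l : List S} {v w : N} (hv : Kill l v) (hw : Kill l w) :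
    Kill l (v - w) := fun a ha => by rw [smul_sub, hv a ha, hw a ha, sub_zero]

theorem Kill.add {N : Type u} [AddCommGroup N] [Module S N] {l : List S} {v w : N} (hv : Kill l v) (hw : Kill l w) :
    Kill l (v + w) := fun a ha => by rw [smul_add, hv a ha, hw a ha, add_zero]

theorem Kill.smul {N : Type u} [AddCommGroup N] [Module S N] {l : List S} {v : N} (hv : Kill l v) (c : S) :
    Kill l (c • v) := fun a ha => by rw [smul_comm, hv a ha, smul_zero]

theorem Kill.map {N N' : Type u} [AddCommGroup N] [Module S N] [AddCommGroup N'] [Module S N'] {l : List S} {v : N}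
    (hv : Kill l v) (g : N →ₗ[S] N') : Kill l (g v) := fun a ha => by rw [← map_smul, hv a ha, map_zero]

theorem kill_zero {N : Type u} [AddCommGroup N] [Module S N] (l : List S) : Kill l (0 : N) := fun _ _ => smul_zero _

theorem kill_iff_span {N : Type u} [AddCommGroup N] [Module S N] {l : List S} {v : N} :
    Kill l v ↔ ∀ a ∈ Ideal.ofList l, a • v = 0 := by
  refine ⟨fun h a ha => ?_, fun h a ha => h a (Ideal.subset_span ha)⟩
  induction ha using Submodule.span_induction with
  | mem x hx => exact h x hx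
  | zero => exact zero_smul _ _
  | add x y _ _ hx hy => rw [add_smul, hx, hy, add_zero]
  | smul c x _ hx => rw [smul_eq_mul, mul_smul, hx, smul_zero]

theorem kill_congr {N : Type u} [AddCommGroup N] [Module S N] {l l' : List S} {v : N}
    (h : Ideal.ofList l = Ideal.ofList l') (hv : Kill l v) : Kill l' v :=
  kill_iff_span.2 (h ▸ kill_iff_span.1 hv)

theorem bd_congr {l l' : List S} (h : Ideal.ofList l = Ideal.ofList l') : ∀ {q : ℕ} {z : R q},
    Bd d l q z → Bd d l' q z
  | 0, _, hz => hz
  | _ + 1, _, ⟨u, hu, e⟩ => ⟨u, kill_congr h hu, e⟩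

theorem Bd.sub {l : List S} : ∀ {q : ℕ} {z z' : R q}, Bd d l q z → Bd d l q z' → Bd d l q (z - z')
  | 0, _, _, h, h' => by
    simp only [Bd] at h h' ⊢
    rw [h, h', sub_zero]
  | _ + 1, _, _, ⟨u, hu, e⟩, ⟨u', hu', e'⟩ => ⟨u - u', hu.sub hu', by rw [map_sub, e, e']⟩

theorem Bd.smul {l : List S} (c : S) : ∀ {q : ℕ} {z : R q}, Bd d l q z → Bd d l q (c • z)
  | 0, _, h => by
    simp only [Bd] at h ⊢
    rw [h, smul_zero]
  | _ + 1, _, ⟨u, hu, e⟩ => ⟨c • u, hu.smul c, by rw [map_smul, e]⟩

theorem bd_zero (l : List S) : ∀ q, Bd d l q (0 : R q)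
  | 0 => rfl
  | _ + 1 => ⟨0, kill_zero l, map_zero _⟩

theorem Bd.add {l : List S} {q : ℕ} {z z' : R q} (h : Bd d l q z) (h' : Bd d l q z') : Bd d l q (z + z') := by
  have := h.sub ((bd_zero l q).sub h')
  rwa [zero_sub, sub_neg_eq_add] at this

theorem Chain.length_eq {l : List S} {m : M} {q : ℕ} {z : R q} (h : Chain d ε l m q z) : q = l.length := by
  induction h with
  | nil m => rfl
  | cons _ _ _ ih => rw [List.length_cons, ← ih]

theorem Chain.smul {l : List S} {m : M} {q : ℕ} {z : R q} (c : S) (h : Chain d ε l m q z) :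
    Chain d ε l (c • m) q (c • z) := by
  induction h with
  | nil m => rw [← map_smul]; exact .nil _
  | cons h hv hf ih =>
    rw [← map_smul]
    exact .cons ih (hv.smul c) (by rw [smul_comm, hf])

theorem Chain.sub {l : List S} {m : M} {q : ℕ} {z : R q} (h : Chain d ε l m q z) :
    ∀ {m' : M} {z' : R q}, Chain d ε l m' q z' → Chain d ε l (m - m') q (z - z') := by
  induction h with
  | nil m =>
    intro m' z' h'
    cases h'
    rw [← map_sub]
    exact .nil _
  | cons h hv hf ih =>
    intro m' z' h'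
    cases h' with
    | cons h' hv' hf' =>
      rw [← map_sub]
      exact .cons (ih h') (hv.sub hv') (by rw [smul_sub, hf, hf'])

theorem Chain.add {l : List S} {m m' : M} {q : ℕ} {z z' : R q} (h : Chain d ε l m q z) (h' : Chain d ε l m' q z') :
    Chain d ε l (m + m') q (z + z') := by
  have := h.sub ((h'.sub h').sub h')
  simpa using this

variable (H : Res d ε)
include H

theorem Chain.cocycle {l : List S} {m : M} {q : ℕ} {z : R q} (h : Chain d ε l m q z) :
    d q z = 0 ∧ Kill l z := by
  induction h with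
  | nil m => exact ⟨H.zero m, fun a ha => absurd ha (by simp)⟩
  | cons h hv hf ih => exact ⟨H.dd _ _, kill_cons.2 ⟨by rw [← map_smul, hf, ih.1], hv.map _⟩⟩

/-- Dividing a coboundary. -/
theorem bd_lift {f : S} {l : List S} (hf : IsSMulRegular (S ⧸ Ideal.ofList l) f) :
    ∀ {q : ℕ} {y : R q}, Bd d l q y → ∃ v, Kill l v ∧ f • v = y ∧ d q v = 0
  | 0, y, hy => ⟨0, kill_zero l, by rw [smul_zero]; exact hy.symm, map_zero _⟩
  | q + 1, y, ⟨u, hu, e⟩ => by
    obtain ⟨u', hu', e'⟩ := H.div l f hf q u hu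
    exact ⟨d q u', hu'.map _, by rw [← map_smul, e', e], H.dd q u'⟩

theorem exists_chain : ∀ {l : List S}, Reg l → ∀ m : M, ∃ z, Chain d ε l m l.length z
  | [], _, m => ⟨ε m, .nil m⟩
  | f :: l, h, m => by
    obtain ⟨z, hz⟩ := exists_chain h.2 m
    obtain ⟨v, hv, e⟩ := H.div l f h.1 _ z (hz.cocycle H).2
    exact ⟨d _ v, .cons hz hv e⟩

/-- The cocycles killed by a regular sequence. -/
theorem main : ∀ {l : List S}, Reg l →
    (∀ (q : ℕ) (z : R q), l.length < q → d q z = 0 → Kill l z → Bd d l q z) ∧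
    (∀ z : R l.length, d _ z = 0 → Kill l z → ∃ m z', Chain d ε l m l.length z' ∧ Bd d l l.length (z - z')) ∧
    (∀ (m : M) (z : R l.length), Chain d ε l m l.length z →
      (Bd d l l.length z ↔ m ∈ Ideal.ofList l • (⊤ : Submodule S M)))
  | [], _ => by
    refine ⟨fun q z hq hz _ => ?_, fun z hz _ => ?_, fun m z hc => ?_⟩
    · obtain ⟨q, rfl⟩ : ∃ j, q = j + 1 := ⟨q - 1, by simp only [List.length_nil] at hq; omega⟩
      obtain ⟨v, hv⟩ := H.exact q z hz
      exact ⟨v, fun a ha => absurd ha (by simp), hv⟩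
    · obtain ⟨m, hm⟩ := H.exact_zero z hz
      exact ⟨m, ε m, .nil m, by rw [hm, sub_self]; rfl⟩
    · cases hc
      show ε m = 0 ↔ _
      rw [Ideal.ofList_nil, Submodule.bot_smul, Submodule.mem_bot, map_eq_zero_iff ε H.inj]
  | f :: l, h => by
    obtain ⟨top, surj, ker⟩ := main h.2
    refine ⟨fun q z hq hz hk => ?_, fun z hz hk => ?_, fun m z hc => ?_⟩
    · obtain ⟨q, rfl⟩ : ∃ j, q = j + 1 := ⟨q - 1, by simp only [List.length_cons] at hq; omega⟩
      obtain ⟨hfz, hkz⟩ := kill_cons.1 hk
      obtain ⟨v, hv, rfl⟩ := top (q + 1) z (by simp only [List.length_cons] at hq; omega) hz hkz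
      obtain ⟨v', hv', e', d'⟩ := bd_lift H h.1
        (top q (f • v) (by simp only [List.length_cons] at hq; omega) (by rw [map_smul, hfz]) (hv.smul f))
      exact ⟨v - v', kill_cons.2 ⟨by rw [smul_sub, e', sub_self], hv.sub hv'⟩, by rw [map_sub, d', sub_zero]⟩
    · obtain ⟨hfz, hkz⟩ := kill_cons.1 hk
      obtain ⟨v, hv, rfl⟩ := top (l.length + 1) z (Nat.lt_succ_self _) hz hkz
      obtain ⟨m, z', hc, hb⟩ := surj (f • v) (by rw [map_smul, hfz]) (hv.smul f)
      obtain ⟨v', hv', e', d'⟩ := bd_lift H h.1 hb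
      refine ⟨m, d _ (v - v'), .cons hc (hv.sub hv') (by rw [smul_sub, e', sub_sub_cancel]), ?_⟩
      rw [map_sub, d', sub_zero, sub_self]
      exact bd_zero _ _
    · rw [Ideal.ofList_cons, Submodule.sup_smul]
      cases hc with
      | @cons _ _ _ z₀ v _ hc hv hf =>
        constructor
        · rintro ⟨u, hu, e⟩
          obtain ⟨hfu, hku⟩ := kill_cons.1 hu
          obtain ⟨m', z', hc', hb'⟩ := surj (v - u) (by rw [map_sub, e, sub_self]) (hv.sub hku)
          have h1 := (hc.sub (hc'.smul f))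
          have h2 : Bd d l l.length (z₀ - f • z') := by
            have : z₀ - f • z' = f • ((v - u) - z') := by rw [smul_sub, smul_sub, hfu, sub_zero, hf]
            rw [this]
            exact hb'.smul f
          have h3 := (ker _ _ h1).1 h2
          refine Submodule.mem_sup.2 ⟨f • m', Submodule.smul_mem_smul (Ideal.mem_span_singleton_self f) trivial,
            _, h3, add_sub_cancel _ _⟩
        · intro hm
          obtain ⟨a, ha, b, hb, rfl⟩ := Submodule.mem_sup.1 hm
          rw [Submodule.ideal_span_singleton_smul] at ha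
          obtain ⟨m', -, rfl⟩ := (Submodule.mem_smul_pointwise_iff_exists _ _ _).1 ha
          obtain ⟨z', hc'⟩ := exists_chain H h.2 m'
          have h1 := hc.sub (hc'.smul f)
          rw [add_sub_cancel_left] at h1
          obtain ⟨v', hv', e', d'⟩ := bd_lift H h.1 ((ker _ _ h1).2 hb)
          refine ⟨v - v' - z', kill_cons.2 ⟨?_, (hv.sub hv').sub (hc'.cocycle H).2⟩, ?_⟩
          · rw [smul_sub, smul_sub, hf, e', sub_sub_cancel, sub_self]
          · rw [map_sub, map_sub, d', (hc'.cocycle H).1, sub_zero, sub_zero]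

/-- Chains are well defined up to coboundaries. -/
theorem chain_unique {l : List S} (h : Reg l) {m : M} {q : ℕ} {z z' : R q} (hz : Chain d ε l m q z)
    (hz' : Chain d ε l m q z') : Bd d l q (z - z') := by
  obtain rfl := hz.length_eq
  have h1 := hz.sub hz'
  rw [sub_self] at h1
  exact ((main H h).2.2 _ _ h1).2 (zero_mem _)

omit H

variable (d ε)

/-- The classes along `l` are those along `l'`, scaled. -/
def Rel (l l' : List S) (c : S) : Prop :=
  ∀ (m : M) (q : ℕ) (z : R q), Chain d ε l m q z → ∃ z', Chain d ε l' (c • m) q z' ∧ Bd d l q (z - z')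

variable {d ε}

theorem rel_refl (l : List S) : Rel d ε l l 1 := fun m q z h =>
  ⟨z, (one_smul S m).symm ▸ h, by rw [sub_self]; exact bd_zero _ _⟩

theorem Rel.trans {l l' l'' : List S} {c c' : S} (h : Rel d ε l l' c) (h' : Rel d ε l' l'' c')
    (e : Ideal.ofList l' = Ideal.ofList l) : Rel d ε l l'' (c' * c) := fun m q z hz => by
  obtain ⟨z', h1, b1⟩ := h m q z hz
  obtain ⟨z'', h2, b2⟩ := h' _ q z' h1
  refine ⟨z'', (mul_smul c' c m).symm ▸ h2, ?_⟩
  rw [← sub_add_sub_cancel z z' z'']
  exact b1.add (bd_congr e b2)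

include H in
theorem Rel.cons {l l' : List S} {c : S} (h : Rel d ε l l' c) (f : S)
    (hf : IsSMulRegular (S ⧸ Ideal.ofList l) f) (e : Ideal.ofList l' = Ideal.ofList l) :
    Rel d ε (f :: l) (f :: l') c := fun m q z hz => by
  cases hz with
  | @cons _ _ q z₀ v _ hc hv hf' =>
    obtain ⟨y, hy, hb⟩ := h m q z₀ hc
    obtain ⟨v', hv', e', d'⟩ := bd_lift H hf hb
    refine ⟨_, .cons hy (kill_congr e.symm (hv.sub hv')) (by rw [smul_sub, hf', e', sub_sub_cancel]), ?_⟩
    rw [map_sub, d', sub_zero, sub_self]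
    exact bd_zero _ _

include H in
/-- A transposition changes the sign. -/
theorem rel_swap {t : List S} {a b : S} (hb : IsSMulRegular (S ⧸ Ideal.ofList t) b)
    (ha : IsSMulRegular (S ⧸ Ideal.ofList (b :: t)) a) :
    Rel d ε (b :: a :: t) (a :: b :: t) (-1) := fun m q z hz => by
  cases hz with
  | @cons _ _ _ z₁ w _ hc hw hbw =>
    cases hc with
    | @cons _ _ q y v _ hy hv hav =>
      obtain ⟨hy0, -⟩ := hy.cocycle H
      obtain ⟨hwa, hwt⟩ := kill_cons.1 hw
      obtain ⟨x, hx, hbx⟩ := H.div t b hb q v hv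
      have h1 : Kill (b :: t) (a • d q x) := kill_cons.2 ⟨by
        rw [← map_smul, ← map_smul, smul_comm, hbx, hav, hy0], (hx.map _).smul a⟩
      obtain ⟨c, hc, hac⟩ := H.div (b :: t) a ha _ _ h1
      obtain ⟨hcb, hct⟩ := kill_cons.1 hc
      have hy' := hy.smul (-1 : S)
      have c1 : Chain d ε (b :: t) ((-1 : S) • m) (q + 1) (d q (-(a • x))) :=
        .cons hy' (fun r hr => by rw [smul_neg, (hx.smul a) r hr, neg_zero])
          (by rw [smul_neg, smul_comm b a, hbx, hav, neg_one_smul])
      have c2 : Chain d ε (a :: b :: t) ((-1 : S) • m) (q + 1 + 1) (d (q + 1) (-c)) :=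
        .cons c1 (fun r hr => by rw [smul_neg, hc r hr, neg_zero])
          (by rw [smul_neg, hac, map_neg, map_smul])
      refine ⟨_, c2, w - d q x + c, kill_cons.2 ⟨?_, kill_cons.2 ⟨?_, (hwt.sub (hx.map _)).add hct⟩⟩, ?_⟩
      · rw [smul_add, smul_sub, hbw, ← map_smul, hbx, sub_self, hcb, zero_add]
      · rw [smul_add, smul_sub, hwa, hac, zero_sub, neg_add_cancel]
      · rw [map_add, map_sub, H.dd, sub_zero, map_neg, sub_neg_eq_add]

include H in
/-- Changing the first element of the list. -/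
theorem rel_head {t : List S} {f f' u : S} (h : f' - u * f ∈ Ideal.ofList t) :
    Rel d ε (f :: t) (f' :: t) u := fun m q z hz => by
  cases hz with
  | @cons _ _ q y v _ hy hv hfv =>
    refine ⟨d q v, .cons (hy.smul u) hv ?_, by rw [sub_self]; exact bd_zero _ _⟩
    have := kill_iff_span.1 hv _ h
    rw [sub_smul, mul_smul, hfv, sub_eq_zero] at this
    exact this

end Groth.Agent.FundLocIsoLib
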