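import Groth.Agent.FundLocIsoLib.Local

/-!
# Classes of killed cocycles in the Ext sheaf
-/

set_option autoImplicit false
set_option backward.isDefEq.respectTransparency false
set_option linter.style.haveILetI false
set_option maxHeartbeats 800000

universe u

open CategoryTheory CategoryTheory.Limits AlgebraicGeometry TopologicalSpace Opposite
open Groth.Agent.PullbackMod Groth.Agent.DCohLib Groth.Agent.StalkHomLib Groth.Agent.ProjSerreLib

noncomputable section

namespace Groth.Agent.FundLocIsoLib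

variable {P X : Scheme.{u}} (ι : X ⟶ P) [IsClosedImmersion ι] [IsLocallyNoetherian P]
  [ModSite.HasSheafHom (O := P.sheaf) (pushO ι)] {F : P.Modules} (R : InjectiveResolution F)

local instance additive_hFpushO : (hF (pushO ι)).Additive :=
  (ModSite.sheafHomAdj (O := P.sheaf) (pushO ι)).right_adjoint_additive

/-- The complex computing the Ext sheaves. -/
abbrev homCx : CochainComplex P.Modules ℕ :=
  ((hF (pushO ι)).mapHomologicalComplex (ComplexShape.up ℕ)).obj R.cocomplex

/-- The Ext sheaf as the homology of the complex. -/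
abbrev extT (r : ℕ) : P.Modules := (homCx ι R).homology r

theorem jmap_d (q q' : ℕ) (p : P) (k : ((homCx ι R).X q).presheaf.stalk p) :
    jmap ι (R.cocomplex.X q') p (stalkLin ((homCx ι R).d q q') p k) =
      stalkLin (R.cocomplex.d q q') p (jmap ι (R.cocomplex.X q) p k) :=
  jmap_natural ι (R.cocomplex.d q q') p k

/-- The class of a killed cocycle. -/
def IsCls (r : ℕ) (p : P) (z : (R.cocomplex.X r).presheaf.stalk p) (t : (extT ι R r).presheaf.stalk p) : Prop :=
  ∃ c : ((homCx ι R).cycles r).presheaf.stalk p,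
    jmap ι (R.cocomplex.X r) p (stalkLin ((homCx ι R).iCycles r) p c) = z ∧
      stalkLin ((homCx ι R).homologyπ r) p c = t

variable {ι R} {r : ℕ} {p : P}

theorem IsCls.add {z z' : (R.cocomplex.X r).presheaf.stalk p} {t t' : (extT ι R r).presheaf.stalk p}
    (h : IsCls ι R r p z t) (h' : IsCls ι R r p z' t') : IsCls ι R r p (z + z') (t + t') := by
  obtain ⟨c, h1, h2⟩ := h
  obtain ⟨c', h1', h2'⟩ := h'
  exact ⟨c + c', by rw [map_add, map_add, h1, h1'], by rw [map_add, h2, h2']⟩

theorem IsCls.smul {z : (R.cocomplex.X r).presheaf.stalk p} {t : (extT ι R r).presheaf.stalk p} (a : P.presheaf.stalk p)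
    (h : IsCls ι R r p z t) : IsCls ι R r p (a • z) (a • t) := by
  obtain ⟨c, h1, h2⟩ := h
  exact ⟨a • c, by rw [map_smul, map_smul, h1], by rw [map_smul, h2]⟩

theorem IsCls.sub {z z' : (R.cocomplex.X r).presheaf.stalk p} {t t' : (extT ι R r).presheaf.stalk p}
    (h : IsCls ι R r p z t) (h' : IsCls ι R r p z' t') : IsCls ι R r p (z - z') (t - t') := by
  obtain ⟨c, h1, h2⟩ := h
  obtain ⟨c', h1', h2'⟩ := h'
  exact ⟨c - c', by rw [map_sub, map_sub, h1, h1'], by rw [map_sub, h2, h2']⟩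

variable (ι R) (x : X)

theorem injective_j_iCycles (r : ℕ) : Function.Injective fun c : ((homCx ι R).cycles r).presheaf.stalk (ι x) =>
    jmap ι (R.cocomplex.X r) (ι x) (stalkLin ((homCx ι R).iCycles r) (ι x) c) :=
  (jmap_injective ι _ x).comp ((mono_iff_stalk ((homCx ι R).iCycles r)).1 inferInstance (ι x))

theorem IsCls.unique {z : (R.cocomplex.X r).presheaf.stalk (ι x)} {t t' : (extT ι R r).presheaf.stalk (ι x)}
    (h : IsCls ι R r (ι x) z t) (h' : IsCls ι R r (ι x) z t') : t = t' := by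
  obtain ⟨c, h1, rfl⟩ := h
  obtain ⟨c', h1', rfl⟩ := h'
  rw [injective_j_iCycles ι R x r (h1.trans h1'.symm)]

theorem exists_cls {z : (R.cocomplex.X r).presheaf.stalk (ι x)} (hz : dP R (ι x) r z = 0)
    (hk : ∀ a, ι.stalkMap x a = 0 → a • z = 0) : ∃ t, IsCls ι R r (ι x) z t := by
  obtain ⟨k, rfl⟩ := (mem_range_jmap ι _ x z).2 hk
  have hk0 : stalkLin ((homCx ι R).d r (r + 1)) (ι x) k = 0 := jmap_injective ι _ x (by
    rw [jmap_d, map_zero]; exact hz)
  have hS : (ShortComplex.mk _ _ ((homCx ι R).iCycles_d r (r + 1))).Exact :=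
    ShortComplex.exact_of_f_is_kernel _ ((homCx ι R).cyclesIsKernel r (r + 1) (by simp))
  obtain ⟨c, hc⟩ := (ShortComplex.moduleCat_exact_iff _).1 (hS.map (stkF (ι x))) k hk0
  exact ⟨_, c, by rw [show stalkLin ((homCx ι R).iCycles r) (ι x) c = k from hc], rfl⟩

theorem exists_rep (t : (extT ι R r).presheaf.stalk (ι x)) :
    ∃ z, IsCls ι R r (ι x) z t ∧ dP R (ι x) r z = 0 ∧ ∀ a, ι.stalkMap x a = 0 → a • z = 0 := by
  obtain ⟨c, rfl⟩ := (epi_iff_stalk ((homCx ι R).homologyπ r)).1 inferInstance (ι x) t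
  refine ⟨_, ⟨c, rfl, rfl⟩, ?_, (mem_range_jmap ι _ x _).1 ⟨_, rfl⟩⟩
  rw [dP, ← jmap_d, ← LinearMap.comp_apply (stalkLin ((homCx ι R).d r (r + 1)) (ι x)), ← stalkLin_comp,
    (homCx ι R).iCycles_d, DevLib.stalkLin_zero, LinearMap.zero_apply, map_zero]

theorem cls_eq_zero_iff {z : (R.cocomplex.X r).presheaf.stalk (ι x)} {t : (extT ι R r).presheaf.stalk (ι x)}
    (h : IsCls ι R r (ι x) z t) {l : List (P.presheaf.stalk (ι x))}
    (hl : Ideal.ofList l = RingHom.ker (ι.stalkMap x).hom) :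
    t = 0 ↔ Bd (dP R (ι x)) l r z := by
  obtain ⟨c, rfl, rfl⟩ := h
  have hkill : ∀ (q : ℕ) (v : (R.cocomplex.X q).presheaf.stalk (ι x)),
      Kill l v ↔ ∃ k, jmap ι (R.cocomplex.X q) (ι x) k = v := fun q v => by
    rw [kill_iff_span, hl, mem_range_jmap]
    exact ⟨fun h a ha => h a (RingHom.mem_ker.2 ha), fun h a ha => h a (RingHom.mem_ker.1 ha)⟩
  cases r with
  | zero =>
    have h0 : (homCx ι R).toCycles 0 0 = 0 := by
      rw [← cancel_mono ((homCx ι R).iCycles 0), HomologicalComplex.toCycles_i, zero_comp]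
      exact (homCx ι R).shape _ _ (by simp)
    have hS : (ShortComplex.mk _ _ ((homCx ι R).toCycles_comp_homologyπ 0 0)).Exact :=
      ShortComplex.exact_of_g_is_cokernel _ ((homCx ι R).homologyIsCokernel 0 0 (by simp))
    constructor
    · intro hc
      obtain ⟨k, hk⟩ := (ShortComplex.moduleCat_exact_iff _).1 (hS.map (stkF (ι x))) c hc
      rw [← (show stalkLin ((homCx ι R).toCycles 0 0) (ι x) k = c from hk), h0, DevLib.stalkLin_zero,
        LinearMap.zero_apply, map_zero, map_zero]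
      rfl
    · intro hc
      rw [show c = 0 from injective_j_iCycles ι R x 0 (hc.trans (by simp [jmap])), map_zero]
  | succ q =>
    have hS : (ShortComplex.mk _ _ ((homCx ι R).toCycles_comp_homologyπ q (q + 1))).Exact :=
      ShortComplex.exact_of_g_is_cokernel _ ((homCx ι R).homologyIsCokernel q (q + 1) (by simp))
    have hkey : ∀ k, jmap ι (R.cocomplex.X (q + 1)) (ι x)
        (stalkLin ((homCx ι R).iCycles (q + 1)) (ι x) (stalkLin ((homCx ι R).toCycles q (q + 1)) (ι x) k)) =
          dP R (ι x) q (jmap ι (R.cocomplex.X q) (ι x) k) := fun k => by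
      rw [← LinearMap.comp_apply (stalkLin ((homCx ι R).iCycles (q + 1)) (ι x)), ← stalkLin_comp,
        HomologicalComplex.toCycles_i, jmap_d]
    constructor
    · intro hc
      obtain ⟨k, hk⟩ := (ShortComplex.moduleCat_exact_iff _).1 (hS.map (stkF (ι x))) c hc
      exact ⟨_, (hkill q _).2 ⟨k, rfl⟩, by rw [← hkey, show stalkLin ((homCx ι R).toCycles q (q + 1)) (ι x) k = c from hk]⟩
    · rintro ⟨u, hu, e⟩
      obtain ⟨k, rfl⟩ := (hkill q u).1 hu
      have : stalkLin ((homCx ι R).toCycles q (q + 1)) (ι x) k = c :=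
        injective_j_iCycles ι R x (q + 1) ((hkey k).trans e)
      rw [← this, ← LinearMap.comp_apply (stalkLin ((homCx ι R).homologyπ (q + 1)) (ι x)), ← stalkLin_comp,
        HomologicalComplex.toCycles_comp_homologyπ, DevLib.stalkLin_zero, LinearMap.zero_apply]

/-- Classes of germs of one section come from one section. -/
theorem exists_cls_section {V : P.Opens} (z : Γ(R.cocomplex.X r, V)) (hp : p ∈ V)
    {t : (extT ι R r).presheaf.stalk p} (h : IsCls ι R r p ((R.cocomplex.X r).presheaf.germ V p hp z) t) :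
    ∃ (W : P.Opens) (hW : W ≤ V) (_ : p ∈ W) (s : Γ(extT ι R r, W)), ∀ (y : P) (hy : y ∈ W),
      IsCls ι R r y ((R.cocomplex.X r).presheaf.germ V y (hW hy) z) ((extT ι R r).presheaf.germ W y hy s) := by
  obtain ⟨c, h1, -⟩ := h
  obtain ⟨U, hU, c, rfl⟩ := TopCat.Presheaf.exists_germ_eq ((homCx ι R).cycles r).presheaf c
  replace h1 := ((jmap_germ ι (R.cocomplex.X r) hU (((homCx ι R).iCycles r).app U c)).symm.trans
    ((congrArg (jmap ι (R.cocomplex.X r) p) (stalkLin_germ ((homCx ι R).iCycles r) p hU c)).symm.trans h1))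
  obtain ⟨W, hpW, i₁, i₂, e⟩ := (R.cocomplex.X r).presheaf.germ_eq p hU hp _ z h1
  refine ⟨W, i₂.le, hpW, ((homCx ι R).homologyπ r).app W (((homCx ι R).cycles r).presheaf.map i₁.op c),
    fun y hy => ⟨((homCx ι R).cycles r).presheaf.germ W y hy (((homCx ι R).cycles r).presheaf.map i₁.op c), ?_,
      stalkLin_germ _ _ _ _⟩⟩
  refine ((congrArg (jmap ι (R.cocomplex.X r) y) ((congrArg _ (TopCat.Presheaf.germ_res_apply _ i₁ y hy c)).trans
    (stalkLin_germ ((homCx ι R).iCycles r) y (i₁.le hy) c))).trans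
    (jmap_germ ι (R.cocomplex.X r) (i₁.le hy) (((homCx ι R).iCycles r).app U c))).trans ?_
  refine (TopCat.Presheaf.germ_res_apply (R.cocomplex.X r).presheaf i₁ y hy _).symm.trans ?_
  rw [e, TopCat.Presheaf.germ_res_apply]

end Groth.Agent.FundLocIsoLib
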