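import Groth.Agent.ExtSeqLib.Class
import Groth.Agent.ExtPowLib.Exist
import Groth.Agent.ExtPowLib.Unique
import Groth.Agent.DegDevLib.Wedge

/-!
# The top exterior power of an extension
-/

set_option autoImplicit false
set_option backward.isDefEq.respectTransparency false
set_option linter.style.haveILetI false
set_option linter.unusedSectionVars false
set_option maxHeartbeats 1000000

universe u

open CategoryTheory CategoryTheory.Limits AlgebraicGeometry TopologicalSpace Opposite
open Groth.Agent.PullbackMod Groth.Agent.DCohLib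
open scoped TensorProduct

noncomputable section

namespace Groth.Agent.FundLocIsoLib

variable {X : Scheme.{u}}

/-- Exterior powers beyond the rank vanish. -/
theorem subsingleton_extPow_stalk {E L : X.Modules} {a i : ℕ} (hai : a < i) (hL : ExtSeq.EP i E L)
    (hE : ∀ x : X, ∃ (U : X.Opens) (s : Fin a → Γ(E, U)), x ∈ U ∧ DegDevLib.IsFrame U s) (x : X) :
    Subsingleton (L.presheaf.stalk x) := by
  refine subsingleton_of_forall_eq 0 fun z => ?_
  obtain ⟨U, s, hxU, hs⟩ := hE x
  obtain ⟨W, hW, t, rfl⟩ := ExtSeq.exists_germ_affine x z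
  obtain ⟨V, hV, hVU⟩ := ExtSeq.exists_affine_nhd (U := U ⊓ W.1) ⟨hxU, hW⟩
  let b := (hs.res (hVU.trans inf_le_left)).basis
  have h0 : ∀ y : ↥(⋀[Γ(X, V.1)]^i Γ(E, V.1)), y = 0 := by
    have h : (LinearMap.id : ↥(⋀[Γ(X, V.1)]^i Γ(E, V.1)) →ₗ[Γ(X, V.1)] _) = 0 :=
      exteriorPower.linearMap_ext (b.ext_alternating fun v hv => absurd
        (Fintype.card_le_of_injective v hv) (by simp only [Fintype.card_fin]; omega))
    exact fun y => LinearMap.congr_fun h y
  rw [← TopCat.Presheaf.germ_res_apply L.presheaf (homOfLE (hVU.trans inf_le_right)) x hV t]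
  rw [show L.presheaf.map (homOfLE (hVU.trans inf_le_right)).op t = 0 from
    (hL.φ V).injective ((h0 _).trans (map_zero _).symm), map_zero]

variable {S : ShortComplex X.Modules}

/-- The top exterior power of an extension is the product of those of the two pieces. -/
theorem nonempty_det_iso (hS : S.ShortExact) (h₁ : FlatMod.IsFinLocFree S.X₁) (h₂ : FlatMod.IsFinLocFree S.X₂)
    (h₃ : FlatMod.IsFinLocFree S.X₃) {a c n : ℕ} (hn : a + c = n)
    (ha : ∀ x : X, ∃ (U : X.Opens) (s : Fin a → Γ(S.X₁, U)), x ∈ U ∧ DegDevLib.IsFrame U s)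
    (hc : ∀ x : X, ∃ (U : X.Opens) (s : Fin c → Γ(S.X₃, U)), x ∈ U ∧ DegDevLib.IsFrame U s)
    {A B C : X.Modules} (hA : ExtPow.IsExtPow a S.X₁ A) (hB : ExtPow.IsExtPow n S.X₂ B)
    (hC : ExtPow.IsExtPow c S.X₃ C) : Nonempty (tmod A C ≅ B) := by
  haveI := (PullbackMod.isQCoh_and_isFP_of_isFinLocFree _ h₁).1
  haveI := (PullbackMod.isQCoh_and_isFP_of_isFinLocFree _ h₂).1
  haveI := (PullbackMod.isQCoh_and_isFP_of_isFinLocFree _ h₃).1
  let D : ExtSeq.Data X :=
    { S := S, hS := hS, h₁ := h₁, h₂ := h₂, h₃ := h₃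
      L' := fun i => (ExtPowLib.exists_isExtPow S.X₁ i).choose
      L := fun i => (ExtPowLib.exists_isExtPow S.X₂ i).choose
      L'' := fun i => (ExtPowLib.exists_isExtPow S.X₃ i).choose
      d' := fun i => (ExtSeq.nonempty_EP (ExtPowLib.exists_isExtPow S.X₁ i).choose_spec.2).some
      d := fun i => (ExtSeq.nonempty_EP (ExtPowLib.exists_isExtPow S.X₂ i).choose_spec.2).some
      d'' := fun i => (ExtSeq.nonempty_EP (ExtPowLib.exists_isExtPow S.X₃ i).choose_spec.2).some }
  -- the products are onto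
  have hsurj : ∀ (j p k : ℕ) (h : p + k = n), k = c + j → ∀ x, Function.Surjective (stalkLin (D.m h) x) →
      Function.Surjective (stalkLin (D.m hn) x) := by
    intro j
    induction j with
    | zero =>
      intro p k h hk x hs
      obtain rfl : k = c := hk
      obtain rfl : p = a := by omega
      exact hs
    | succ j ih =>
      intro p k h hk x hs
      obtain rfl : k = c + j + 1 := hk
      refine ih (p + 1) (c + j) (by omega) rfl x fun z => ?_
      obtain ⟨w, rfl⟩ := hs z
      haveI := subsingleton_extPow_stalk (a := c) (i := c + j + 1) (by omega) (D.d'' _) hc x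
      have : Subsingleton ((tmod (D.L' p) (D.L'' (c + j + 1))).presheaf.stalk x) := by
        refine subsingleton_of_forall_eq 0 fun v => ?_
        obtain ⟨v, rfl⟩ := (stalkTensor x (D.L' p) (D.L'' (c + j + 1))).surjective v
        rw [show v = 0 from Subsingleton.elim _ _, map_zero]
      obtain ⟨z', hz'⟩ := ExtSeq.exists_of_a_eq_zero D x h (by omega) (Subsingleton.elim _ _)
      exact ⟨z', hz'.symm⟩
  haveI : Epi (D.m hn) := (epi_iff_stalk _).2 fun x =>
    hsurj a 0 n (Nat.zero_add n) (by omega) x (ExtSeq.surjective_m_zero D x (Nat.zero_add n))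
  haveI : Epi (image.ι (D.m hn)) := epi_of_epi_fac (image.fac (D.m hn))
  haveI : IsIso (image.ι (D.m hn)) := isIso_of_mono_of_epi _
  obtain ⟨q, hq⟩ := D.exists_qbar hn
  haveI : IsIso q := by
    refine (isIso_iff_stalk q).2 fun x => ⟨(injective_iff_map_eq_zero _).2 fun w hw => ?_, fun z => ?_⟩
    · obtain ⟨z, rfl⟩ := (epi_iff_stalk (factorThruImage (D.m hn))).1 inferInstance x w
      rw [← ExtSeq.stalkLin_comp_apply, hq] at hw
      suffices h : stalkLin (D.m hn) x z = 0 by
        refine (mono_iff_stalk (image.ι (D.m hn))).1 inferInstance x ?_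
        rw [← ExtSeq.stalkLin_comp_apply, image.fac, h, map_zero]
      rcases Nat.eq_zero_or_pos c with rfl | hc0
      · rw [ExtSeq.injective_a_zero D x a (hw.trans (map_zero _).symm), map_zero]
      · obtain ⟨k, rfl⟩ : ∃ k, c = k + 1 := ⟨c - 1, by omega⟩
        obtain ⟨z', hz'⟩ := ExtSeq.exists_of_a_eq_zero D x hn (by omega) hw
        haveI := subsingleton_extPow_stalk (a := a) (i := a + 1) (by omega) (D.d' _) ha x
        rw [hz']
        obtain ⟨v, rfl⟩ := (stalkTensor x (D.L' (a + 1)) (D.L k)).surjective z'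
        rw [show v = 0 from Subsingleton.elim _ _, map_zero, map_zero]
    · obtain ⟨w, rfl⟩ := ExtSeq.surjective_a D x a c z
      exact ⟨stalkLin (factorThruImage (D.m hn)) x w, by rw [← ExtSeq.stalkLin_comp_apply, hq]⟩
  obtain ⟨eA⟩ := ExtPowLib.nonempty_iso hA (ExtPowLib.exists_isExtPow S.X₁ a).choose_spec.2
  obtain ⟨eB⟩ := ExtPowLib.nonempty_iso hB (ExtPowLib.exists_isExtPow S.X₂ n).choose_spec.2
  obtain ⟨eC⟩ := ExtPowLib.nonempty_iso hC (ExtPowLib.exists_isExtPow S.X₃ c).choose_spec.2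
  exact ⟨((DCoh.tensorBi (X := X)).mapIso eA).app C ≪≫ ((DCoh.tensorBi (X := X)).obj _).mapIso eC ≪≫
    (asIso q).symm ≪≫ asIso (image.ι (D.m hn)) ≪≫ eB.symm⟩

end Groth.Agent.FundLocIsoLib
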