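import Groth.Agent.StalkHomLib.StalkExt
import Groth.Agent.ProjSerreLib.Codim
import Groth.Agent.DCohLib.StalkKFlat
import Groth.Agent.DCohLib.ClosedPush
import Groth.Agent.ExtShLib.Supp
import Groth.Agent.FundLocIsoLib.Chain

/-!
# The complex computing the Ext sheaves of a closed subscheme on stalks
-/

set_option autoImplicit false
set_option backward.isDefEq.respectTransparency false
set_option linter.style.haveILetI false
set_option maxHeartbeats 800000

universe u

open CategoryTheory CategoryTheory.Limits AlgebraicGeometry TopologicalSpace Opposite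
open Groth.Agent.PullbackMod Groth.Agent.DCohLib Groth.Agent.StalkHomLib Groth.Agent.ProjSerreLib

noncomputable section

namespace Groth.Agent.FundLocIsoLib

variable {P X : Scheme.{u}} (ι : X ⟶ P) [IsClosedImmersion ι]

/-- The unit section. -/
def uSec : Γ(pushO ι, ⊤) := (1 : Γ(X, ι ⁻¹ᵁ ⊤))

/-- Its germ. -/
abbrev uG (p : P) : (pushO ι).presheaf.stalk p := (pushO ι).presheaf.germ ⊤ p trivial (uSec ι)

theorem pushStalk_uG (x : X) : pushStalk ι (Coh.structureModule X) x (uG ι (ι x)) = ParaFLib.oneG x :=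
  pushStalk_germ ι (Coh.structureModule X) x (W := ⊤) trivial _

theorem smul_uG_eq_zero {x : X} {a : P.presheaf.stalk (ι x)} : a • uG ι (ι x) = 0 ↔ ι.stalkMap x a = 0 := by
  rw [← (bijective_pushStalk ι (Coh.structureModule X) x).1.eq_iff, map_zero, pushStalk_smul, pushStalk_uG]
  exact ⟨fun h => (ParaFLib.bijective_oneG x).1 (h.trans (zero_smul _ _).symm), fun h => by rw [h, zero_smul]⟩

theorem exists_smul_uG (x : X) (f : (pushO ι).presheaf.stalk (ι x)) : ∃ a : P.presheaf.stalk (ι x), a • uG ι (ι x) = f := by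
  obtain ⟨b, hb⟩ := (ParaFLib.bijective_oneG x).2 (pushStalk ι (Coh.structureModule X) x f)
  obtain ⟨a, rfl⟩ := ι.stalkMap_surjective x b
  exact ⟨a, (bijective_pushStalk ι (Coh.structureModule X) x).1 (by rw [pushStalk_smul, pushStalk_uG]; exact hb)⟩

variable [ModSite.HasSheafHom (O := P.sheaf) (pushO ι)]

/-- Evaluation at the unit. -/
def jmap (N : P.Modules) (p : P) : ((hF (pushO ι)).obj N).presheaf.stalk p →ₗ[P.presheaf.stalk p] N.presheaf.stalk p :=
  (LinearMap.applyₗ (uG ι p)).comp (theta (pushO ι) N p)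

theorem jmap_natural {N N' : P.Modules} (g : N ⟶ N') (p : P) (z : ((hF (pushO ι)).obj N).presheaf.stalk p) :
    jmap ι N' p (stalkLin ((hF (pushO ι)).map g) p z) = stalkLin g p (jmap ι N p z) :=
  theta_natural (pushO ι) g p z _

/-- Evaluation at the unit on sections. -/
def jSec (N : P.Modules) {V : P.Opens} (h : Γ((hF (pushO ι)).obj N, V)) : Γ(N, V) :=
  (ev (pushO ι) N).app V (pairS ((hF (pushO ι)).obj N) (pushO ι) h
    ((pushO ι).presheaf.map (homOfLE (le_top : V ≤ ⊤)).op (uSec ι)))

theorem jmap_germ (N : P.Modules) {V : P.Opens} {p : P} (hp : p ∈ V) (h : Γ((hF (pushO ι)).obj N, V)) :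
    jmap ι N p (((hF (pushO ι)).obj N).presheaf.germ V p hp h) = N.presheaf.germ V p hp (jSec ι N h) := by
  rw [jSec, ← theta_germ]
  show theta _ _ _ _ (uG ι p) = _
  rw [TopCat.Presheaf.germ_res_apply]

variable [IsLocallyNoetherian P]

theorem jmap_injective (N : P.Modules) (x : X) : Function.Injective (jmap ι N (ι x)) := by
  refine (injective_iff_map_eq_zero _).2 fun z hz => ?_
  refine (theta_bijective (pushO ι) (ι x) (isCoh_pushO ι) N).1 (Eq.trans (LinearMap.ext fun f => ?_) (map_zero _).symm)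
  obtain ⟨a, rfl⟩ := exists_smul_uG ι x f
  rw [map_smul, show theta (pushO ι) N (ι x) z (uG ι (ι x)) = 0 from hz, smul_zero, LinearMap.zero_apply]

theorem mem_range_jmap (N : P.Modules) (x : X) (v : N.presheaf.stalk (ι x)) :
    (∃ z, jmap ι N (ι x) z = v) ↔ ∀ a, ι.stalkMap x a = 0 → a • v = 0 := by
  refine ⟨?_, fun h => ?_⟩
  · rintro ⟨z, rfl⟩ a ha
    show a • theta (pushO ι) N (ι x) z (uG ι (ι x)) = 0
    rw [← map_smul, (smul_uG_eq_zero ι).2 ha, map_zero]
  · let f := LinearMap.toSpanSingleton (P.presheaf.stalk (ι x)) _ (uG ι (ι x))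
    have hk : LinearMap.ker f ≤ LinearMap.ker (LinearMap.toSpanSingleton (P.presheaf.stalk (ι x)) _ v) :=
      fun a ha => h a ((smul_uG_eq_zero ι).1 ha)
    let φ := (Submodule.liftQ _ _ hk).comp (LinearMap.quotKerEquivOfSurjective f (exists_smul_uG ι x)).symm.toLinearMap
    obtain ⟨z, hz⟩ := (theta_bijective (pushO ι) (ι x) (isCoh_pushO ι) N).2 φ
    refine ⟨z, ?_⟩
    show theta (pushO ι) N (ι x) z (uG ι (ι x)) = v
    rw [hz]
    have e : (LinearMap.quotKerEquivOfSurjective f (exists_smul_uG ι x)).symm (uG ι (ι x)) = Submodule.Quotient.mk 1 :=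
      (LinearEquiv.symm_apply_eq _).2 (by rw [LinearMap.quotKerEquivOfSurjective_apply_mk]; exact (one_smul _ _).symm)
    show (Submodule.liftQ _ _ hk) ((LinearMap.quotKerEquivOfSurjective f (exists_smul_uG ι x)).symm (uG ι (ι x))) = v
    rw [e, Submodule.liftQ_apply, LinearMap.toSpanSingleton_apply, one_smul]

omit [ModSite.HasSheafHom (O := P.sheaf) (pushO ι)] in
/-- Injective sheaves have divisible stalks. -/
theorem exists_div (J : P.Modules) (hJ : Injective J) (p : P) (l : List (P.presheaf.stalk p)) (f : P.presheaf.stalk p)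
    (hf : IsSMulRegular (P.presheaf.stalk p ⧸ Ideal.ofList l) f) (v : J.presheaf.stalk p) (hv : Kill l v) :
    ∃ w, Kill l w ∧ f • w = v := by
  haveI : Module.Injective (P.presheaf.stalk p) (J.presheaf.stalk p) := S11155.result J hJ p
  let A := P.presheaf.stalk p ⧸ Ideal.ofList l
  let g : A →ₗ[P.presheaf.stalk p] J.presheaf.stalk p :=
    Submodule.liftQ _ (LinearMap.toSpanSingleton _ _ v) fun a ha => kill_iff_span.1 hv a ha
  obtain ⟨h, hh⟩ := Module.Injective.out (f • LinearMap.id : A →ₗ[P.presheaf.stalk p] A) (fun a b hab => hf hab) g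
  refine ⟨h (Submodule.Quotient.mk 1), fun a ha => ?_, ?_⟩
  · rw [← map_smul, ← Submodule.Quotient.mk_smul, (Submodule.Quotient.mk_eq_zero _).2 ?_, map_zero]
    rw [smul_eq_mul, mul_one]
    exact Ideal.subset_span ha
  · rw [← map_smul]
    refine (hh (Submodule.Quotient.mk 1)).trans ?_
    show g (Submodule.Quotient.mk 1) = v
    rw [Submodule.liftQ_apply, LinearMap.toSpanSingleton_apply, one_smul]

variable {F : P.Modules} (R : InjectiveResolution F) (p : P)

/-- The augmentation. -/
abbrev augP : F ⟶ R.cocomplex.X 0 := R.ι.f 0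

/-- The differential on stalks. -/
abbrev dP (q : ℕ) : (R.cocomplex.X q).presheaf.stalk p →ₗ[P.presheaf.stalk p] (R.cocomplex.X (q + 1)).presheaf.stalk p :=
  stalkLin (R.cocomplex.d q (q + 1)) p

omit [ModSite.HasSheafHom (O := P.sheaf) (pushO ι)] in
theorem res_stalk : Res (dP R p) (stalkLin (augP R) p) where
  inj := (mono_iff_stalk (augP R)).1 (inferInstanceAs (Mono (R.ι.f 0))) p
  zero m := by
    rw [← LinearMap.comp_apply, ← stalkLin_comp, show augP R ≫ R.cocomplex.d 0 1 = 0 from R.ι_f_zero_comp_complex_d,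
      DevLib.stalkLin_zero, LinearMap.zero_apply]
  exact_zero z hz := by
    have hS : (ShortComplex.mk (augP R) (R.cocomplex.d 0 1) R.ι_f_zero_comp_complex_d).Exact :=
      ShortComplex.exact_of_f_is_kernel _ R.isLimitKernelFork
    exact (ShortComplex.moduleCat_exact_iff _).1 (hS.map (stkF p)) z hz
  dd q z := by
    rw [← LinearMap.comp_apply, ← stalkLin_comp, R.complex_d_comp, DevLib.stalkLin_zero, LinearMap.zero_apply]
  exact q z hz := (ShortComplex.moduleCat_exact_iff _).1 ((R.exact_succ q).map (stkF p)) z hz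
  div l f hf q v hv := exists_div (R.cocomplex.X q) (R.injective q) p l f hf v hv

end Groth.Agent.FundLocIsoLib
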