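import Groth.Agent.FundLocIsoLib.Frames
import Groth.Agent.DegDevLib.Wedge
import Groth.Agent.ExtShLib.Affine
import Groth.Agent.AmpleLib.Tensor
import Mathlib.LinearAlgebra.ExteriorPower.Basic

/-!
# The wedge of the classes of regular generators
-/

set_option autoImplicit false
set_option backward.isDefEq.respectTransparency false
set_option linter.style.haveILetI false
set_option maxHeartbeats 1000000

universe u

open CategoryTheory CategoryTheory.Limits AlgebraicGeometry TopologicalSpace Opposite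
open Groth.Agent.PullbackMod Groth.Agent.DCohLib

noncomputable section

namespace Groth.Agent.FundLocIsoLib

/-- An alternating form over a larger ring as one over a smaller ring. -/
def altRestrict {S A C : Type u} [CommRing S] [CommRing A] [Algebra S A] [AddCommGroup C] [Module A C] [Module S C]
    [IsScalarTower S A C] {n : ℕ} (f : C [⋀^Fin n]→ₗ[A] A) : C [⋀^Fin n]→ₗ[S] A :=
  { f.toMultilinearMap.restrictScalars S with map_eq_zero_of_eq' := fun v i j h hne => f.map_eq_zero_of_eq v h hne }

theorem form_eq_of_wprod {S A C : Type u} [CommRing S] [CommRing A] [Algebra S A] [AddCommGroup C] [Module A C]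
    [Module S C] [IsScalarTower S A C] (cl : S → C) {n : ℕ} (g g' : Fin n → S) (s : S)
    (h : wprod cl (List.ofFn g') = s • wprod cl (List.ofFn g)) (f : C [⋀^Fin n]→ₗ[A] A) :
    f (cl ∘ g') = algebraMap S A s * f (cl ∘ g) := by
  have hw : ∀ v : Fin n → S, ((exteriorPower.ιMulti S n (cl ∘ v) : ↥(⋀[S]^n C)) : ExteriorAlgebra S C) =
      wprod cl (List.ofFn v) := fun v => by
    rw [exteriorPower.ιMulti_apply_coe, ExteriorAlgebra.ιMulti_apply, wprod, List.map_ofFn]
    rfl
  have h1 : exteriorPower.ιMulti S n (cl ∘ g') = s • exteriorPower.ιMulti S n (cl ∘ g) := Subtype.ext (by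
    rw [hw, h, ← hw]
    rfl)
  have h2 := congrArg (exteriorPower.alternatingMapLinearEquiv (altRestrict (S := S) f)) h1
  rw [map_smul, exteriorPower.alternatingMapLinearEquiv_apply_ιMulti,
    exteriorPower.alternatingMapLinearEquiv_apply_ιMulti, Algebra.smul_def] at h2
  exact h2

variable {P X : Scheme.{u}} [IsLocallyNoetherian P] {ι : X ⟶ P} [IsClosedImmersion ι] {r : ℕ}

/-- The affine preimage of a chart. -/
def Chart.W (c : Chart ι r) : X.affineOpens := ⟨ι ⁻¹ᵁ c.U, c.affine.preimage ι⟩

variable {L : X.Modules} (φ : DegDevLib.ExtIso r (Omega.conormal ι) L)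

/-- The germ of the wedge of the classes. -/
def wG (c : Chart ι r) (y : X) (hy : ι y ∈ c.U) : L.presheaf.stalk y :=
  L.presheaf.germ (ι ⁻¹ᵁ c.U) y hy (DegDevLib.wsec φ c.W c.sectC)

variable {φ} (hφ : DegDevLib.Compat φ)
include hφ

theorem bijective_wG (c : Chart ι r) (y : X) (hy : ι y ∈ c.U) :
    Function.Bijective fun a : X.presheaf.stalk y => a • wG φ c y hy :=
  (DegDevLib.gen_wsec φ hφ (V := c.W) c.isFrame_sectC).bijective_germ y hy

theorem wG_change (c c' : Chart ι r) (y : X) (hy : ι y ∈ c.U) (hy' : ι y ∈ c'.U) (s : P.presheaf.stalk (ι y))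
    (h : letI : Module (P.presheaf.stalk (ι y)) ((Omega.conormal ι).presheaf.stalk y) :=
        Module.compHom _ (ι.stalkMap y).hom
      wprod (cls ι y) (List.ofFn (c'.gens y hy')) = s • wprod (cls ι y) (List.ofFn (c.gens y hy))) :
    wG φ c' y hy' = ι.stalkMap y s • wG φ c y hy := by
  let C : Type u := (Omega.conormal ι).presheaf.stalk y
  letI : Algebra (P.presheaf.stalk (ι y)) (X.presheaf.stalk y) := (ι.stalkMap y).hom.toAlgebra
  letI : Module (P.presheaf.stalk (ι y)) C := Module.compHom C (ι.stalkMap y).hom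
  haveI : IsScalarTower (P.presheaf.stalk (ι y)) (X.presheaf.stalk y) C := .of_algebraMap_smul fun _ _ => rfl
  -- a common affine neighbourhood
  obtain ⟨_, ⟨D : X.Opens, (hD : IsAffineOpen D), rfl⟩, hyD, hDle⟩ :=
    X.isBasis_affineOpens.exists_subset_of_mem_open
      (show y ∈ (((ι ⁻¹ᵁ c.U) ⊓ (ι ⁻¹ᵁ c'.U) : X.Opens) : Set X) from ⟨hy, hy'⟩) ((ι ⁻¹ᵁ c.U) ⊓ (ι ⁻¹ᵁ c'.U)).2
  have hl : D ≤ ι ⁻¹ᵁ c.U := hDle.trans inf_le_left
  have hl' : D ≤ ι ⁻¹ᵁ c'.U := hDle.trans inf_le_right
  let f : Fin r → Γ(Omega.conormal ι, D) := fun i => (Omega.conormal ι).presheaf.map (homOfLE hl).op (c.sectC i)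
  let f' : Fin r → Γ(Omega.conormal ι, D) := fun i => (Omega.conormal ι).presheaf.map (homOfLE hl').op (c'.sectC i)
  have hf : DegDevLib.IsFrame (E := Omega.conormal ι) D f := c.isFrame_sectC.res hl
  choose T hT using fun i => hf.bijective.2 (f' i)
  let A : Matrix (Fin r) (Fin r) Γ(X, D) := fun i j => T i j
  have hf' : f' = fun i => ∑ j, A i j • f j := funext fun i => by
    rw [← hT i, Fintype.linearCombination_apply]
  have e1 : DegDevLib.wsec φ (V := ⟨D, hD⟩) f' = A.det • DegDevLib.wsec φ (V := ⟨D, hD⟩) f := by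
    rw [hf']
    exact DegDevLib.wsec_smul φ (V := ⟨D, hD⟩) hf A
  have e2 : ∀ (d : Chart ι r) (hd : D ≤ ι ⁻¹ᵁ d.U), L.presheaf.germ D y hyD (DegDevLib.wsec φ (V := ⟨D, hD⟩)
      fun i => (Omega.conormal ι).presheaf.map (homOfLE hd).op (d.sectC i)) = wG φ d y (hd hyD) := fun d hd => by
    refine (congrArg (L.presheaf.germ D y hyD) (hφ d.W ⟨D, hD⟩ hd d.sectC)).symm.trans ?_
    exact TopCat.Presheaf.germ_res_apply L.presheaf _ y hyD _
  have e3 := congrArg (L.presheaf.germ D y hyD) e1
  rw [ParaFLib.germ_smul', e2 c' hl', e2 c hl] at e3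
  rw [e3]
  -- the determinant at the stalk
  let b : Module.Basis (Fin r) (X.presheaf.stalk y) C :=
    Module.Basis.ofEquivFun (LinearEquiv.ofBijective _ (c.bijective_cls y hy)).symm
  have hb : ∀ i, b i = cls ι y (c.gens y hy i) := fun i => by
    classical
    rw [show b = Module.Basis.ofEquivFun (LinearEquiv.ofBijective _ (c.bijective_cls y hy)).symm from rfl,
      Module.Basis.coe_ofEquivFun]
    simp [Fintype.linearCombination_apply_single]
  have hAy : (fun i => cls ι y (c'.gens y hy' i)) =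
      fun i => ∑ j, (X.presheaf.germ D y hyD).hom.mapMatrix A i j • b j := funext fun i => by
    have h1 := congrArg ((Omega.conormal ι).presheaf.germ D y hyD) (congrFun hf' i)
    rw [map_sum, TopCat.Presheaf.germ_res_apply, c'.germ_sectC] at h1
    rw [h1]
    refine Finset.sum_congr rfl fun j _ => ?_
    rw [hb, ParaFLib.germ_smul', TopCat.Presheaf.germ_res_apply, c.germ_sectC]
    rfl
  have h4 := form_eq_of_wprod (S := P.presheaf.stalk (ι y)) (A := X.presheaf.stalk y) (C := C) (cls ι y)
    (c.gens y hy) (c'.gens y hy') s h b.det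
  rw [show cls ι y ∘ c'.gens y hy' = fun i => cls ι y (c'.gens y hy' i) from rfl, hAy, DegDevLib.det_rows,
    show cls ι y ∘ c.gens y hy = (b : Fin r → C) from funext fun i => (hb i).symm, b.det_self, mul_one,
    ← RingHom.map_det] at h4
  exact congrArg (· • wG φ c y hy) h4

end Groth.Agent.FundLocIsoLib
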