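import Groth.Agent.FundLocIsoLib.Psi
import Groth.Agent.FundLocIsoLib.Wedge
import Groth.Agent.ProjSerreLib.ExtShriek
import Groth.Agent.CurveLib.Inv
import Groth.Agent.EtAlgEasy.PrinPartStalkMod

/-!
# The fundamental local isomorphism
-/

set_option autoImplicit false
set_option backward.isDefEq.respectTransparency false
set_option linter.style.haveILetI false
set_option maxHeartbeats 1000000

universe u

open CategoryTheory CategoryTheory.Limits AlgebraicGeometry TopologicalSpace Opposite
open Groth.Agent.PullbackMod Groth.Agent.DCohLib Groth.Agent.StalkHomLib Groth.Agent.ProjSerreLib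
open scoped TensorProduct

noncomputable section

namespace Groth.Agent.FundLocIsoLib

theorem bijective_stalk_tmul {X : Scheme.{u}} {M N : X.Modules} (y : X) {w : N.presheaf.stalk y}
    (hw : Function.Bijective fun a : X.presheaf.stalk y => a • w) :
    Function.Bijective fun z : M.presheaf.stalk y => stalkTensor y M N (z ⊗ₜ[X.presheaf.stalk y] w) := by
  let e : X.presheaf.stalk y ≃ₗ[X.presheaf.stalk y] N.presheaf.stalk y :=
    LinearEquiv.ofBijective (LinearMap.toSpanSingleton _ _ w) hw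
  let f := ((TensorProduct.rid (X.presheaf.stalk y) (M.presheaf.stalk y)).symm.trans
    (TensorProduct.congr (LinearEquiv.refl _ _) e)).trans (stalkTensor y M N)
  have hf : ∀ z, f z = stalkTensor y M N (z ⊗ₜ[X.presheaf.stalk y] w) := fun z => by
    simp [f, e, LinearMap.toSpanSingleton_apply]
  have h := f.bijective
  rwa [show (⇑f : _ → _) = fun z => stalkTensor y M N (z ⊗ₜ[X.presheaf.stalk y] w) from funext hf] at h

/-- The unit of the internal Hom out of an invertible sheaf is an isomorphism. -/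
theorem isIso_unit_invertible {X : Scheme.{u}} [IsLocallyNoetherian X] {L : X.Modules}
    [ModSite.HasSheafHom (O := X.sheaf) L] (hL : PicF.IsInvertible L) (M : X.Modules) :
    IsIso (show M ⟶ (hF L).obj (tmod M L) from (ModSite.sheafHomAdj (O := X.sheaf) L).unit.app M) := by
  let a : M ⟶ (hF L).obj (tmod M L) := (ModSite.sheafHomAdj (O := X.sheaf) L).unit.app M
  refine (isIso_iff_stalk a).2 fun y => ?_
  obtain ⟨w, hw⟩ := ParaFLib.exists_stalk_gen hL y
  have hLc : Coh.IsCoh L := CurveLib.isCoh_of_isFinLocFree (CurveLib.isFinLocFree_of_isInvertible hL)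
  have hth := theta_bijective L y hLc (tmod M L)
  have hev : Function.Bijective fun φ : L.presheaf.stalk y →ₗ[X.presheaf.stalk y] (tmod M L).presheaf.stalk y => φ w := by
    let e : X.presheaf.stalk y ≃ₗ[X.presheaf.stalk y] L.presheaf.stalk y :=
      LinearEquiv.ofBijective (LinearMap.toSpanSingleton _ _ w) hw
    refine ⟨fun φ ψ h => LinearMap.ext fun l => ?_, fun t => ⟨(LinearMap.toSpanSingleton _ _ t).comp e.symm.toLinearMap, ?_⟩⟩
    · obtain ⟨b, rfl⟩ := hw.2 l
      show φ (b • w) = ψ (b • w)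
      rw [map_smul, map_smul, show φ w = ψ w from h]
    · show LinearMap.toSpanSingleton _ _ t (e.symm w) = t
      rw [show e.symm w = 1 from (LinearEquiv.symm_apply_eq e).2 (show w = (1 : X.presheaf.stalk y) • w by rw [one_smul]),
        LinearMap.toSpanSingleton_apply, one_smul]
  have key : ∀ z, theta L (tmod M L) y (stalkLin a y z) w = stalkTensor y M L (z ⊗ₜ[X.presheaf.stalk y] w) := fun z => by
    rw [theta_transpose]
    have h : (((ModSite.sheafHomAdj (O := X.sheaf) L).homEquiv M (tmod M L)).symm a : tmod M L ⟶ tmod M L) = 𝟙 _ :=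
      ((ModSite.sheafHomAdj (O := X.sheaf) L).homEquiv_counit _ _ _).trans
        ((ModSite.sheafHomAdj (O := X.sheaf) L).left_triangle_components M)
    rw [h, stalkLin_id]
    rfl
  have hb := bijective_stalk_tmul (M := M) y hw
  rw [← funext key] at hb
  exact ((hev.comp hth).of_comp_iff' _).1 hb

variable {P X : Scheme.{u}} [IsLocallyNoetherian P] {ι : X ⟶ P} [IsClosedImmersion ι]
  [ModSite.HasSheafHom (O := P.sheaf) (pushO ι)] {F : P.Modules} {R : InjectiveResolution F} {r : ℕ}
  {E : X.Modules} (a : extT ι R r ≅ (Scheme.Modules.pushforward ι).obj E)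
  {L : X.Modules} (φ : DegDevLib.ExtIso r (Omega.conormal ι) L)

/-- The stalk of the homology at a point of the subscheme. -/
def alpha (y : X) (t : (extT ι R r).presheaf.stalk (ι y)) : E.presheaf.stalk y :=
  pushStalk ι E y (stalkLin a.hom (ι y) t)

omit [IsLocallyNoetherian P] in
theorem bijective_alpha (y : X) : Function.Bijective (alpha a y) :=
  (bijective_pushStalk ι E y).comp ((isIso_iff_stalk a.hom).1 inferInstance (ι y))

omit [IsLocallyNoetherian P] in
theorem alpha_smul (y : X) (s : P.presheaf.stalk (ι y)) (t : (extT ι R r).presheaf.stalk (ι y)) :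
    alpha a y (s • t) = ι.stalkMap y s • alpha a y t := by
  rw [alpha, map_smul, pushStalk_smul]
  rfl

omit [IsLocallyNoetherian P] in
theorem alpha_add (y : X) (t t' : (extT ι R r).presheaf.stalk (ι y)) :
    alpha a y (t + t') = alpha a y t + alpha a y t' := by
  simp only [alpha, map_add]

/-- The value at the germ of `m` in the chart. -/
def IsVal (y : X) (c : Chart ι r) (hc : ι y ∈ c.U) (m : F.presheaf.stalk (ι y))
    (e : (tmod E L).presheaf.stalk y) : Prop :=
  ∃ t, Psi ι R r (ι y) (List.ofFn (c.gens y hc)) m t ∧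
    e = stalkTensor y E L (alpha a y t ⊗ₜ[X.presheaf.stalk y] wG φ c y hc)

variable {φ} (hφ : DegDevLib.Compat φ) (y : X) (c : Chart ι r) (hc : ι y ∈ c.U)

theorem exists_isVal (m : F.presheaf.stalk (ι y)) : ∃ e, IsVal a φ y c hc m e := by
  obtain ⟨t, ht⟩ := exists_psi (R := R) (c.ofList_gens y hc) (List.length_ofFn ..) (c.reg_gens y hc) m
  exact ⟨_, t, ht, rfl⟩

theorem IsVal.unique {m : F.presheaf.stalk (ι y)} {e e' : (tmod E L).presheaf.stalk y} (h : IsVal a φ y c hc m e)
    (h' : IsVal a φ y c hc m e') : e = e' := by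
  obtain ⟨t, ht, rfl⟩ := h
  obtain ⟨t', ht', rfl⟩ := h'
  rw [Psi.unique (c.ofList_gens y hc) (c.reg_gens y hc) ht ht']

theorem IsVal.add {m m' : F.presheaf.stalk (ι y)} {e e' : (tmod E L).presheaf.stalk y} (h : IsVal a φ y c hc m e)
    (h' : IsVal a φ y c hc m' e') : IsVal a φ y c hc (m + m') (e + e') := by
  obtain ⟨t, ht, rfl⟩ := h
  obtain ⟨t', ht', rfl⟩ := h'
  exact ⟨t + t', ht.add ht', by rw [alpha_add, TensorProduct.add_tmul, map_add]⟩

theorem IsVal.smul {m : F.presheaf.stalk (ι y)} {e : (tmod E L).presheaf.stalk y} (s : P.presheaf.stalk (ι y))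
    (h : IsVal a φ y c hc m e) : IsVal a φ y c hc (s • m) (ι.stalkMap y s • e) := by
  obtain ⟨t, ht, rfl⟩ := h
  exact ⟨s • t, ht.smul s, by rw [alpha_smul, ← map_smul, TensorProduct.smul_tmul']⟩

include hφ in
theorem IsVal.change (c' : Chart ι r) (hc' : ι y ∈ c'.U) {m : F.presheaf.stalk (ι y)}
    {e : (tmod E L).presheaf.stalk y} (h : IsVal a φ y c hc m e) : IsVal a φ y c' hc' m e := by
  obtain ⟨t, ht, rfl⟩ := h
  letI : Module (P.presheaf.stalk (ι y)) ((Omega.conormal ι).presheaf.stalk y) :=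
    Module.compHom _ (ι.stalkMap y).hom
  have hcls : IsClass (RingHom.ker (ι.stalkMap y).hom) (cls ι y) :=
    ⟨fun a b ha hb => cls_add ι y (RingHom.mem_ker.1 ha) (RingHom.mem_ker.1 hb),
      fun s a ha => cls_mul ι y s (RingHom.mem_ker.1 ha), cls_zero ι y⟩
  obtain ⟨he, s, hrel, hw⟩ := eqv_of_regular (res_stalk R (ι y)) (c.isRegular_gens y hc) (c'.isRegular_gens y hc')
    hcls (c.ofList_gens y hc) (c'.ofList_gens y hc')
  obtain ⟨t', ht'⟩ := exists_psi (R := R) (c'.ofList_gens y hc') (List.length_ofFn ..) (c'.reg_gens y hc') m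
  have h1 : t = s • t' := Psi.unique (c'.ofList_gens y hc') (c'.reg_gens y hc')
    (psi_of_rel (c.ofList_gens y hc) hrel he ht) (ht'.smul s)
  refine ⟨t', ht', ?_⟩
  rw [h1, alpha_smul, wG_change hφ c c' y hc hc' s hw, TensorProduct.smul_tmul]

omit hφ

theorem IsVal.eq_of_pullStalk {m m' : F.presheaf.stalk (ι y)}
    (hm : pullStalk ι F y m = pullStalk ι F y m') {e e' : (tmod E L).presheaf.stalk y}
    (h : IsVal a φ y c hc m e) (h' : IsVal a φ y c hc m' e') : e = e' := by
  obtain ⟨t, ht, rfl⟩ := h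
  obtain ⟨t', ht', rfl⟩ := h'
  let N : Type u := ((Scheme.Modules.pullback ι).obj F).presheaf.stalk y
  letI : Algebra (P.presheaf.stalk (ι y)) (X.presheaf.stalk y) := (ι.stalkMap y).hom.toAlgebra
  letI : Module (P.presheaf.stalk (ι y)) N := Module.compHom N (ι.stalkMap y).hom
  haveI : IsScalarTower (P.presheaf.stalk (ι y)) (X.presheaf.stalk y) N := .of_algebraMap_smul fun _ _ => rfl
  let l : F.presheaf.stalk (ι y) →ₗ[P.presheaf.stalk (ι y)] N := pullStalkL ι F y
  obtain ⟨-, hk⟩ := ConormalLib.surjective_and_eq_zero_iff (A := P.presheaf.stalk (ι y)) (B := X.presheaf.stalk y)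
    (ι.stalkMap_surjective y) (show IsBaseChange (X.presheaf.stalk y) l from isBaseChange_pullStalkL' ι F y)
  have h1 : m - m' ∈ RingHom.ker (ι.stalkMap y).hom • (⊤ : Submodule (P.presheaf.stalk (ι y)) (F.presheaf.stalk (ι y))) :=
    (hk (m - m')).1 (show pullStalk ι F y (m - m') = 0 by rw [map_sub, hm, sub_self])
  rw [sub_eq_zero.1 ((psi_eq_zero_iff (c.ofList_gens y hc) (c.reg_gens y hc) (ht.sub ht')).2 h1)]

omit c hc y

theorem exists_lift (y : X) (f : ((Scheme.Modules.pullback ι).obj F).presheaf.stalk y) :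
    ∃ m, pullStalk ι F y m = f := by
  let N : Type u := ((Scheme.Modules.pullback ι).obj F).presheaf.stalk y
  letI : Algebra (P.presheaf.stalk (ι y)) (X.presheaf.stalk y) := (ι.stalkMap y).hom.toAlgebra
  letI : Module (P.presheaf.stalk (ι y)) N := Module.compHom N (ι.stalkMap y).hom
  haveI : IsScalarTower (P.presheaf.stalk (ι y)) (X.presheaf.stalk y) N := .of_algebraMap_smul fun _ _ => rfl
  let l : F.presheaf.stalk (ι y) →ₗ[P.presheaf.stalk (ι y)] N := pullStalkL ι F y
  exact (ConormalLib.surjective_and_eq_zero_iff (A := P.presheaf.stalk (ι y)) (B := X.presheaf.stalk y)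
    (ι.stalkMap_surjective y) (show IsBaseChange (X.presheaf.stalk y) l from isBaseChange_pullStalkL' ι F y)).1 f

include a in
/-- The restriction of the module is the Ext sheaf twisted by the wedge of the conormal sheaf. -/
theorem nonempty_iso_tensor (hι : RegImm.IsRegularImmersionOfCodim RegImm.Kind.regular r ι)
    (hφ : DegDevLib.Compat φ) : Nonempty ((Scheme.Modules.pullback ι).obj F ≅ tmod E L) := by
  choose ch hch using exists_chart ι hι
  choose lft hlft using exists_lift (ι := ι) (F := F)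
  choose V hV using fun (y : X) (m : F.presheaf.stalk (ι y)) => exists_isVal a (φ := φ) y (ch y) (hch y) m
  let Θ : ∀ y : X, ((Scheme.Modules.pullback ι).obj F).presheaf.stalk y → (tmod E L).presheaf.stalk y :=
    fun y f => V y (lft y f)
  have hΘ : ∀ (y : X) (c : Chart ι r) (hc : ι y ∈ c.U) (m : F.presheaf.stalk (ι y))
      (e : (tmod E L).presheaf.stalk y), IsVal a φ y c hc m e → Θ y (pullStalk ι F y m) = e := fun y c hc m e he =>
    IsVal.eq_of_pullStalk a y c hc (hlft y _) (IsVal.change a hφ y (ch y) (hch y) c hc (hV y _)) he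
  let θ : ∀ y : X, ((Scheme.Modules.pullback ι).obj F).presheaf.stalk y →ₗ[X.presheaf.stalk y]
      (tmod E L).presheaf.stalk y := fun y =>
    { toFun := Θ y
      map_add' := fun f f' => by
        have h := hΘ y (ch y) (hch y) _ _ (IsVal.add a y (ch y) (hch y) (hV y (lft y f)) (hV y (lft y f')))
        rwa [map_add, hlft, hlft] at h
      map_smul' := fun s f => by
        obtain ⟨s, rfl⟩ := ι.stalkMap_surjective y s
        have h := hΘ y (ch y) (hch y) _ _ (IsVal.smul a y (ch y) (hch y) s (hV y (lft y f)))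
        rwa [pullStalk_smul, hlft] at h }
  have hbij : ∀ y, Function.Bijective (θ y) := fun y => by
    have hw := bijective_stalk_tmul (M := E) y (bijective_wG hφ (ch y) y (hch y))
    refine ⟨(injective_iff_map_eq_zero _).2 fun f hf => ?_, fun e => ?_⟩
    · obtain ⟨t, ht, he⟩ := hV y (lft y f)
      have h0 : alpha a y t = 0 := hw.1 ((he.symm.trans hf).trans (show _ = stalkTensor y E L ((0 : E.presheaf.stalk y) ⊗ₜ[X.presheaf.stalk y] wG φ (ch y) y (hch y)) by rw [TensorProduct.zero_tmul, map_zero]))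
      have ht0 : t = 0 := (bijective_alpha a y).1 (h0.trans (by simp [alpha]))
      have hmem := (psi_eq_zero_iff ((ch y).ofList_gens y (hch y)) ((ch y).reg_gens y (hch y)) ht).1 ht0
      rw [← hlft y f]
      refine Submodule.smul_induction_on hmem (fun s hs m _ => ?_) fun m n hm hn => ?_
      · rw [pullStalk_smul, RingHom.mem_ker.1 hs, zero_smul]
      · rw [map_add, hm, hn, add_zero]
    · obtain ⟨z, hz⟩ := hw.2 e
      obtain ⟨t, rfl⟩ := (bijective_alpha a y).2 z
      obtain ⟨m, hm⟩ := psi_surjective ((ch y).ofList_gens y (hch y)) (List.length_ofFn ..) ((ch y).reg_gens y (hch y)) t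
      exact ⟨pullStalk ι F y m, hΘ y (ch y) (hch y) m e ⟨t, hm, hz.symm⟩⟩
  obtain ⟨u, hu⟩ := EtAlgEasy.PrinPartStalkMod.exists_hom_of_stalk θ fun U f y hyU => by
    let c := ch y
    -- lift the section near `y`
    obtain ⟨V₀, hV₀, m, hm⟩ := TopCat.Presheaf.exists_germ_eq F.presheaf
      (lft y (((Scheme.Modules.pullback ι).obj F).presheaf.germ U y hyU f))
    let V₁ : P.Opens := V₀ ⊓ c.U
    have hyV : ι y ∈ V₁ := ⟨hV₀, hch y⟩
    let m₁ : Γ(F, V₁) := F.presheaf.map (homOfLE inf_le_left).op m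
    let g₁ := fun i => P.presheaf.map (homOfLE (inf_le_right : V₁ ≤ c.U)).op (c.g i)
    have hg : ∀ (z : X) (hz : ι z ∈ V₁), germL (List.ofFn g₁) (ι z) hz = List.ofFn (c.gens z hz.2) := fun z hz => by
      rw [germL, List.map_ofFn]
      exact congrArg List.ofFn (funext fun i => TopCat.Presheaf.germ_res_apply P.presheaf _ (ι z) hz (c.g i))
    obtain ⟨W, hW, hyW, s, hs⟩ := exists_psi_section (R := R) m₁ (List.ofFn g₁) y hyV
      (by rw [hg]; exact c.ofList_gens y (hch y)) (List.length_ofFn ..) (by rw [hg]; exact c.reg_gens y (hch y))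
    let η := ((Scheme.Modules.pullbackPushforwardAdjunction ι).unit.app F).app V₁ m₁
    have hη : ∀ (z : X) (hz : ι z ∈ V₁), pullStalk ι F z (F.presheaf.germ V₁ (ι z) hz m₁) =
        ((Scheme.Modules.pullback ι).obj F).presheaf.germ (ι ⁻¹ᵁ V₁) z hz η := fun z hz => pullStalk_germ ι F z hz m₁
    have heq : ((Scheme.Modules.pullback ι).obj F).presheaf.germ U y hyU f =
        ((Scheme.Modules.pullback ι).obj F).presheaf.germ (ι ⁻¹ᵁ V₁) y hyV η := by
      rw [← hη y hyV, TopCat.Presheaf.germ_res_apply, hm, hlft]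
    obtain ⟨O, hyO, i, i', e⟩ := ((Scheme.Modules.pullback ι).obj F).presheaf.germ_eq y hyU hyV _ _ heq
    let O' : X.Opens := O ⊓ ι ⁻¹ᵁ W
    have hOW : O' ≤ ι ⁻¹ᵁ W := inf_le_right
    have hWc : ι ⁻¹ᵁ W ≤ ι ⁻¹ᵁ c.U := ι.preimage_mono (hW.trans inf_le_right)
    let sE : Γ(E, O') := E.presheaf.map (homOfLE hOW).op (a.hom.app W s : Γ(E, ι ⁻¹ᵁ W))
    let sL : Γ(L, O') := L.presheaf.map (homOfLE (hOW.trans hWc)).op (DegDevLib.wsec φ c.W c.sectC)
    refine ⟨O', inf_le_left.trans i.le, ⟨hyO, hyW⟩, pairS E L sE sL, fun z hz => ?_⟩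
    have e' : ((Scheme.Modules.pullback ι).obj F).presheaf.germ U z (i.le hz.1) f =
        pullStalk ι F z (F.presheaf.germ V₁ (ι z) (hW hz.2) m₁) := by
      rw [hη z (hW hz.2), ← TopCat.Presheaf.germ_res_apply _ i z hz.1 f, e, TopCat.Presheaf.germ_res_apply]
    rw [e']
    refine hΘ z c (hW hz.2).2 _ _ ⟨(extT ι R r).presheaf.germ W (ι z) hz.2 s, ?_, ?_⟩
    · have := hs (ι z) hz.2
      rwa [hg z (hW hz.2)] at this
    · refine ((stalkTensorHom_tmul z hz sE sL).symm.trans ?_)
      show stalkTensor z E L _ = stalkTensor z E L _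
      congr 2
      · rw [TopCat.Presheaf.germ_res_apply, alpha, stalkLin_germ]
        exact (pushStalk_germ ι E z hz.2 _).symm
      · exact TopCat.Presheaf.germ_res_apply _ _ _ _ _
  haveI : IsIso u := (isIso_iff_stalk u).2 fun y => by
    have : stalkLin u y = θ y := LinearMap.ext fun f => by
      obtain ⟨U, hU, f, rfl⟩ := TopCat.Presheaf.exists_germ_eq ((Scheme.Modules.pullback ι).obj F).presheaf f
      rw [stalkLin_germ, hu U f y hU]
    rw [this]
    exact hbij y
  exact ⟨asIso u⟩

omit a φ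

/-- The fundamental local isomorphism. -/
theorem nonempty_extSh_iso (hι : RegImm.IsRegularImmersionOfCodim RegImm.Kind.regular r ι) {L : X.Modules}
    (hL : ExtPow.IsExtPow r (Omega.conormal ι) L) [ModSite.HasSheafHom (O := X.sheaf) L]
    [HasInjectiveResolutions (ModSite.Mod P.sheaf)] (F : P.Modules) :
    Nonempty (((ModSite.extSh (O := P.sheaf) (pushO ι) r).obj F : P.Modules) ≅
      (Scheme.Modules.pushforward ι).obj ((hF L).obj ((Scheme.Modules.pullback ι).obj F))) := by
  haveI : HasInjectiveResolutions P.Modules := ‹HasInjectiveResolutions (ModSite.Mod P.sheaf)›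
  haveI : IsLocallyNoetherian X := LocallyOfFiniteType.isLocallyNoetherian ι
  obtain ⟨φ, hφ⟩ := hL
  have hinv : PicF.IsInvertible L := AmpleLib.isInvertible_of_gen fun y => by
    obtain ⟨c, hc⟩ := exists_chart ι hι y
    exact ⟨_, _, hc, DegDevLib.gen_wsec φ hφ (V := c.W) c.isFrame_sectC⟩
  let R := injectiveResolution F
  haveI : (hF (pushO ι)).Additive := (ModSite.sheafHomAdj (O := P.sheaf) (pushO ι)).right_adjoint_additive
  let e₁ : ((ModSite.extSh (O := P.sheaf) (pushO ι) r).obj F : P.Modules) ≅ extT ι R r :=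
    R.isoRightDerivedObj (hF (pushO ι)) r
  obtain ⟨e₂⟩ := nonempty_extSh_shCx ι R r
  obtain ⟨u⟩ := nonempty_iso_tensor (e₁.symm ≪≫ e₂) hι hφ
  let η : (shCx ι R).homology r ⟶ (hF L).obj (tmod ((shCx ι R).homology r) L) :=
    (ModSite.sheafHomAdj (O := X.sheaf) L).unit.app _
  haveI : IsIso η := isIso_unit_invertible hinv ((shCx ι R).homology r)
  exact ⟨e₂ ≪≫ (Scheme.Modules.pushforward ι).mapIso (asIso η ≪≫ (hF L).mapIso u.symm)⟩

end Groth.Agent.FundLocIsoLib
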