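import Groth.Agent.FundLocIsoLib.Chain
import Groth.Agent.S3140

/-!
# Change of regular generators

Two regular sequences generating one ideal give classes differing by the ratio of their wedges.
-/

set_option autoImplicit false
set_option linter.style.haveILetI false

universe u

open scoped Pointwise

noncomputable section

namespace Groth.Agent.FundLocIsoLib

variable {S : Type u} [CommRing S]

/-- A function on an ideal compatible with combinations. -/
structure IsClass (I : Ideal S) {C : Type u} [AddCommGroup C] [Module S C] (cls : S → C) : Prop where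
  add : ∀ a b, a ∈ I → b ∈ I → cls (a + b) = cls a + cls b
  smul : ∀ c a, a ∈ I → cls (c * a) = c • cls a
  zero : cls 0 = 0

variable {M : Type u} [AddCommGroup M] [Module S M]
  {R : ℕ → Type u} [∀ q, AddCommGroup (R q)] [∀ q, Module S (R q)]
  {d : ∀ q, R q →ₗ[S] R (q + 1)} {ε : M →ₗ[S] R 0}
  {C : Type u} [AddCommGroup C] [Module S C] (cls : S → C)

/-- The product of the classes in the exterior algebra. -/
def wprod (l : List S) : ExteriorAlgebra S C := (l.map fun a => ExteriorAlgebra.ι S (cls a)).prod

theorem wprod_cons (f : S) (l : List S) : wprod cls (f :: l) = ExteriorAlgebra.ι S (cls f) * wprod cls l := by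
  rw [wprod, List.map_cons, List.prod_cons]
  rfl

variable (d ε)

/-- Classes and wedges change by the same scalar. -/
def Eqv (l l' : List S) : Prop :=
  Ideal.ofList l' = Ideal.ofList l ∧ ∃ c : S, Rel d ε l l' c ∧ wprod cls l' = c • wprod cls l

variable {d ε cls}

theorem eqv_refl (l : List S) : Eqv d ε cls l l := ⟨rfl, 1, rel_refl l, (one_smul _ _).symm⟩

theorem Eqv.trans {l l' l'' : List S} (h : Eqv d ε cls l l') (h' : Eqv d ε cls l' l'') : Eqv d ε cls l l'' := by
  obtain ⟨e, c, hr, hw⟩ := h
  obtain ⟨e', c', hr', hw'⟩ := h'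
  exact ⟨e'.trans e, c' * c, hr.trans hr' e, by rw [hw', hw, smul_smul]⟩

theorem wprod_swap (a b : S) (t : List S) :
    wprod cls (a :: b :: t) = (-1 : S) • wprod cls (b :: a :: t) := by
  rw [wprod_cons, wprod_cons, wprod_cons, wprod_cons, ← mul_assoc, ← mul_assoc, neg_one_smul, ← neg_mul]
  congr 1
  exact eq_neg_of_add_eq_zero_left (ExteriorAlgebra.ι_add_mul_swap _ _)

theorem ι_mul_wprod {f : S} : ∀ {t : List S}, f ∈ t → ExteriorAlgebra.ι S (cls f) * wprod cls t = 0
  | a :: t, h => by
    rw [wprod_cons, ← mul_assoc]
    rcases List.mem_cons.1 h with rfl | h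
    · rw [ExteriorAlgebra.ι_sq_zero, zero_mul]
    · rw [eq_neg_of_add_eq_zero_left (ExteriorAlgebra.ι_add_mul_swap (cls f) (cls a)), neg_mul, mul_assoc,
        ι_mul_wprod h, mul_zero, neg_zero]

theorem ι_mul_wprod_of_mem {I : Ideal S} (hcls : IsClass I cls) {t : List S} (ht : ∀ a ∈ t, a ∈ I) {g : S}
    (hg : g ∈ Ideal.ofList t) : ExteriorAlgebra.ι S (cls g) * wprod cls t = 0 := by
  have hle : Ideal.ofList t ≤ I := Ideal.span_le.2 ht
  induction hg using Submodule.span_induction with
  | mem x hx => exact ι_mul_wprod hx
  | zero => rw [hcls.zero, map_zero, zero_mul]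
  | add x y hx' hy' hx hy => rw [hcls.add x y (hle hx') (hle hy'), map_add, add_mul, hx, hy, add_zero]
  | smul c x hx' hx => rw [smul_eq_mul, hcls.smul c x (hle hx'), map_smul, smul_mul_assoc, hx, smul_zero]

variable (H : Res d ε)
include H

theorem eqv_perm {l l' : List S} (hp : l.Perm l') : (∀ s : List S, s.Perm l → Reg s) → Eqv d ε cls l l' := by
  induction hp with
  | nil => exact fun _ => eqv_refl _
  | cons f hp ih =>
    intro hs
    obtain ⟨e, c, hr, hw⟩ := ih fun s h => (hs (f :: s) (h.cons f)).2
    refine ⟨by rw [Ideal.ofList_cons, Ideal.ofList_cons, e], c, hr.cons H f (hs _ (List.Perm.refl _)).1 e, ?_⟩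
    rw [wprod_cons, wprod_cons, hw, mul_smul_comm]
  | swap a b t =>
    intro hs
    have h2 := hs (a :: b :: t) (List.Perm.swap b a t)
    refine ⟨?_, -1, rel_swap H h2.2.1 h2.1, wprod_swap a b t⟩
    simp only [Ideal.ofList_cons]
    exact sup_left_comm _ _ _
  | trans h₁ _ ih₁ ih₂ =>
    intro hs
    exact (ih₁ hs).trans (ih₂ fun s h => hs s (h.trans h₁.symm))

variable [IsLocalRing S] [IsNoetherianRing S]

omit [IsLocalRing S] [IsNoetherianRing S] H in
theorem reg_of_isWeaklyRegular : ∀ {l : List S}, RingTheory.Sequence.IsWeaklyRegular S l.reverse → Reg l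
  | [], _ => trivial
  | f :: l, h => by
    rw [List.reverse_cons, RingTheory.Sequence.isWeaklyRegular_append_iff] at h
    refine ⟨?_, reg_of_isWeaklyRegular h.1⟩
    have h2 := ((RingTheory.Sequence.isWeaklyRegular_cons_iff _ _ _).1 h.2).1
    have e : (Ideal.ofList l.reverse • (⊤ : Submodule S S)) = Ideal.ofList l := by
      rw [smul_eq_mul, Ideal.mul_top]
      exact congrArg Ideal.span (Set.ext fun x => List.mem_reverse)
    exact ((Submodule.quotEquivOfEq _ _ e).isSMulRegular_congr f).1 h2

omit H in
theorem reg_of_perm {l s : List S} (h : RingTheory.Sequence.IsRegular S l.reverse) (hp : s.Perm l) : Reg s :=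
  reg_of_isWeaklyRegular (IsLocalRing.isRegular_of_perm h
    (l.reverse_perm.trans (hp.symm.trans s.reverse_perm.symm))).toIsWeaklyRegular

omit [IsLocalRing S] [IsNoetherianRing S] H in
theorem ofList_reverse (l : List S) : Ideal.ofList l.reverse = Ideal.ofList l :=
  congrArg Ideal.span (Set.ext fun _ => List.mem_reverse)

omit [IsLocalRing S] [IsNoetherianRing S] H in
theorem exists_head {t : List S} {f f' : S} (h : f' ∈ Ideal.ofList (f :: t)) :
    ∃ c, f' - c * f ∈ Ideal.ofList t := by
  rw [Ideal.ofList_cons] at h
  obtain ⟨a, ha, b, hb, rfl⟩ := Submodule.mem_sup.1 h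
  obtain ⟨c, rfl⟩ := Ideal.mem_span_singleton'.1 ha
  exact ⟨c, by rwa [add_sub_cancel_left]⟩

/-- Two regular sequences generating one ideal. -/
theorem eqv_of_regular {u v : List S} {I : Ideal S} (hu : RingTheory.Sequence.IsRegular S u.reverse)
    (hv : RingTheory.Sequence.IsRegular S v.reverse) (hcls : IsClass I cls) (hIu : Ideal.ofList u = I)
    (hIv : Ideal.ofList v = I) : Eqv d ε cls u v := by
  obtain ⟨ws, h1, h2, hall, hch⟩ := S3140.result S u.reverse v.reverse hu hv (by
    show Ideal.ofList u.reverse = Ideal.ofList v.reverse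
    rw [ofList_reverse, ofList_reverse, hIu, hIv])
  have step : ∀ w w' : List S, RingTheory.Sequence.IsRegular S w → RingTheory.Sequence.IsRegular S w' →
      Ideal.ofList w = I → Ideal.ofList w' = I →
      (w.Perm w' ∨ (w.length = w'.length ∧ w.dropLast = w'.dropLast)) → Eqv d ε cls w.reverse w'.reverse := by
    intro w w' hw hw' e e' h
    have hs : ∀ s : List S, s.Perm w.reverse → Reg s := fun s hp => reg_of_perm (by rwa [List.reverse_reverse]) hp
    rcases h with hp | ⟨hl, hd⟩
    · exact eqv_perm H (w.reverse_perm.trans (hp.trans w'.reverse_perm.symm)) hs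
    · rcases w.eq_nil_or_concat with rfl | ⟨p, f, rfl⟩
      · obtain rfl : w' = [] := List.length_eq_zero_iff.1 hl.symm
        exact eqv_refl _
      · rcases w'.eq_nil_or_concat with rfl | ⟨p', f', rfl⟩
        · simp at hl
        · simp only [List.concat_eq_append, List.dropLast_concat] at hd e e' ⊢
          subst hd
          rw [List.reverse_append, List.reverse_append]
          simp only [List.reverse_cons, List.reverse_nil, List.nil_append, List.singleton_append]
          have e1 : Ideal.ofList (f :: p.reverse) = I := by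
            rw [← e]
            exact congrArg Ideal.span (Set.ext fun x => by simp [or_comm])
          have e2 : Ideal.ofList (f' :: p.reverse) = I := by
            rw [← e']
            exact congrArg Ideal.span (Set.ext fun x => by simp [or_comm])
          have hmem : ∀ x ∈ f :: p.reverse, x ∈ I := fun x hx => e1 ▸ Ideal.subset_span hx
          obtain ⟨c, hc⟩ := exists_head (show f' ∈ Ideal.ofList (f :: p.reverse) by
            rw [e1, ← e2]; exact Ideal.subset_span (List.mem_cons_self ..))
          refine ⟨e2.trans e1.symm, c, rel_head H hc, ?_⟩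
          have hf : f ∈ I := hmem f (List.mem_cons_self ..)
          have ht : ∀ a ∈ p.reverse, a ∈ I := fun a ha => hmem a (List.mem_cons_of_mem _ ha)
          have hdI : f' - c * f ∈ I := Ideal.span_le.2 ht hc
          rw [wprod_cons, wprod_cons]
          have hcl := hcls.add (f' - c * f) (c * f) hdI (I.mul_mem_left _ hf)
          rw [sub_add_cancel] at hcl
          rw [hcl, map_add, add_mul, ι_mul_wprod_of_mem hcls ht hc, zero_add, hcls.smul c f hf, map_smul,
            smul_mul_assoc]
  have key : ∀ (ws : List (List S)) (a : List S), ws.head? = some a →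
      (∀ w ∈ ws, RingTheory.Sequence.IsRegular S w ∧ Ideal.ofList w = I) →
      List.IsChain (fun w w' : List S => w.Perm w' ∨ (w.length = w'.length ∧ w.dropLast = w'.dropLast)) ws →
      ∀ b, ws.getLast? = some b → Eqv d ε cls a.reverse b.reverse := by
    intro ws
    induction ws with
    | nil => intro a h; simp at h
    | cons w ws ih =>
      intro a ha hr hc b hb
      obtain rfl : w = a := by simpa using ha
      cases ws with
      | nil =>
        obtain rfl : w = b := by simpa using hb
        exact eqv_refl _
      | cons w' ws =>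
        obtain ⟨hww, hc'⟩ := List.isChain_cons_cons.1 hc
        have hr1 := hr w (List.mem_cons_self ..)
        have hr2 := hr w' (List.mem_cons_of_mem _ (List.mem_cons_self ..))
        exact (step w w' hr1.1 hr2.1 hr1.2 hr2.2 hww).trans
          (ih w' rfl (fun x hx => hr x (List.mem_cons_of_mem _ hx)) hc' b (by simpa using hb))
  have := key ws _ h1 (fun w hw => ⟨(hall w hw).1, by
    rw [show Ideal.ofList w = Ideal.ofList u.reverse from (hall w hw).2, ofList_reverse, hIu]⟩) hch _ h2
  simpa only [List.reverse_reverse] using this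

end Groth.Agent.FundLocIsoLib
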