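import Groth.Agent.FundLocIsoLib.Classes
import Groth.Agent.FundLocIsoLib.Moves

/-!
# Classes along a regular sequence of generators
-/

set_option autoImplicit false
set_option backward.isDefEq.respectTransparency false
set_option linter.style.haveILetI false
set_option maxHeartbeats 800000

universe u

open CategoryTheory CategoryTheory.Limits AlgebraicGeometry TopologicalSpace Opposite
open Groth.Agent.PullbackMod Groth.Agent.DCohLib Groth.Agent.StalkHomLib Groth.Agent.ProjSerreLib

noncomputable section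

namespace Groth.Agent.FundLocIsoLib

variable {P X : Scheme.{u}} {ι : X ⟶ P} [IsClosedImmersion ι] [IsLocallyNoetherian P]
  [ModSite.HasSheafHom (O := P.sheaf) (pushO ι)] {F : P.Modules} {R : InjectiveResolution F}

variable (ι R) in
/-- The class attached to `m` along a list of generators. -/
def Psi (r : ℕ) (p : P) (l : List (P.presheaf.stalk p)) (m : F.presheaf.stalk p)
    (t : (extT ι R r).presheaf.stalk p) : Prop :=
  ∃ z, Chain (dP R p) (stalkLin (augP R) p) l m r z ∧ IsCls ι R r p z t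

variable {r : ℕ} {p : P} {l : List (P.presheaf.stalk p)}

theorem Psi.add {m m' : F.presheaf.stalk p} {t t' : (extT ι R r).presheaf.stalk p} (h : Psi ι R r p l m t)
    (h' : Psi ι R r p l m' t') : Psi ι R r p l (m + m') (t + t') := by
  obtain ⟨z, hc, hz⟩ := h
  obtain ⟨z', hc', hz'⟩ := h'
  exact ⟨z + z', hc.add hc', hz.add hz'⟩

theorem Psi.smul {m : F.presheaf.stalk p} {t : (extT ι R r).presheaf.stalk p} (a : P.presheaf.stalk p)
    (h : Psi ι R r p l m t) : Psi ι R r p l (a • m) (a • t) := by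
  obtain ⟨z, hc, hz⟩ := h
  exact ⟨a • z, hc.smul a, hz.smul a⟩

theorem Psi.sub {m m' : F.presheaf.stalk p} {t t' : (extT ι R r).presheaf.stalk p} (h : Psi ι R r p l m t)
    (h' : Psi ι R r p l m' t') : Psi ι R r p l (m - m') (t - t') := by
  obtain ⟨z, hc, hz⟩ := h
  obtain ⟨z', hc', hz'⟩ := h'
  exact ⟨z - z', hc.sub hc', hz.sub hz'⟩

variable {x : X} {l : List (P.presheaf.stalk (ι x))} (hl : Ideal.ofList l = RingHom.ker (ι.stalkMap x).hom)
  (hr : l.length = r) (hreg : Reg l)

omit [IsLocallyNoetherian P] [ModSite.HasSheafHom (O := P.sheaf) (pushO ι)] in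
include hl in
theorem kill_iff_ker {q : ℕ} {v : (R.cocomplex.X q).presheaf.stalk (ι x)} :
    Kill l v ↔ ∀ a, ι.stalkMap x a = 0 → a • v = 0 := by
  rw [kill_iff_span, hl]
  exact ⟨fun h a ha => h a (RingHom.mem_ker.2 ha), fun h a ha => h a (RingHom.mem_ker.1 ha)⟩

include hl hr hreg in
theorem exists_psi (m : F.presheaf.stalk (ι x)) : ∃ t, Psi ι R r (ι x) l m t := by
  subst hr
  obtain ⟨z, hz⟩ := exists_chain (res_stalk R (ι x)) hreg m
  obtain ⟨hd, hk⟩ := hz.cocycle (res_stalk R (ι x))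
  obtain ⟨t, ht⟩ := exists_cls ι R x hd ((kill_iff_ker hl).1 hk)
  exact ⟨t, z, hz, ht⟩

include hl hreg in
theorem psi_eq_zero_iff {m : F.presheaf.stalk (ι x)} {t : (extT ι R r).presheaf.stalk (ι x)}
    (h : Psi ι R r (ι x) l m t) :
    t = 0 ↔ m ∈ (RingHom.ker (ι.stalkMap x).hom) • (⊤ : Submodule (P.presheaf.stalk (ι x)) (F.presheaf.stalk (ι x))) := by
  obtain ⟨z, hc, hz⟩ := h
  obtain rfl := hc.length_eq
  rw [cls_eq_zero_iff ι R x hz hl, ← hl]
  exact (main (res_stalk R (ι x)) hreg).2.2 m z hc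

include hl hreg in
theorem Psi.unique {m : F.presheaf.stalk (ι x)} {t t' : (extT ι R r).presheaf.stalk (ι x)}
    (h : Psi ι R r (ι x) l m t) (h' : Psi ι R r (ι x) l m t') : t = t' := by
  have h1 := h.sub h'
  rw [sub_self] at h1
  exact sub_eq_zero.1 ((psi_eq_zero_iff hl hreg h1).2 (zero_mem _))

include hl hr hreg in
theorem psi_surjective (t : (extT ι R r).presheaf.stalk (ι x)) : ∃ m, Psi ι R r (ι x) l m t := by
  subst hr
  obtain ⟨z, hz, hd, hk⟩ := exists_rep ι R x t
  obtain ⟨m, z', hc, hb⟩ := (main (res_stalk R (ι x)) hreg).2.1 z hd ((kill_iff_ker hl).2 hk)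
  obtain ⟨hd', hk'⟩ := hc.cocycle (res_stalk R (ι x))
  obtain ⟨t', ht'⟩ := exists_cls ι R x hd' ((kill_iff_ker hl).1 hk')
  obtain rfl : t = t' := sub_eq_zero.1 ((cls_eq_zero_iff ι R x (hz.sub ht') hl).2 hb)
  exact ⟨m, z', hc, ht'⟩

include hl in
theorem psi_of_rel {l' : List (P.presheaf.stalk (ι x))} {c : P.presheaf.stalk (ι x)}
    (h : Rel (dP R (ι x)) (stalkLin (augP R) (ι x)) l l' c) (e : Ideal.ofList l' = Ideal.ofList l)
    {m : F.presheaf.stalk (ι x)} {t : (extT ι R r).presheaf.stalk (ι x)} (ht : Psi ι R r (ι x) l m t) :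
    Psi ι R r (ι x) l' (c • m) t := by
  obtain ⟨z, hc, hz⟩ := ht
  obtain ⟨z', hc', hb⟩ := h m r z hc
  obtain ⟨hd', hk'⟩ := hc'.cocycle (res_stalk R (ι x))
  obtain ⟨t', ht'⟩ := exists_cls ι R x hd' ((kill_iff_ker (e.trans hl)).1 hk')
  obtain rfl : t = t' := sub_eq_zero.1 ((cls_eq_zero_iff ι R x (hz.sub ht') hl).2 hb)
  exact ⟨z', hc', ht'⟩

omit x l hl hr hreg

/-- The germs of a list of sections. -/
abbrev germL {V : P.Opens} (L : List Γ(P, V)) (y : P) (hy : y ∈ V) : List (P.presheaf.stalk y) :=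
  L.map fun a => P.presheaf.germ V y hy a

omit [IsClosedImmersion ι] [ModSite.HasSheafHom (O := P.sheaf) (pushO ι)] in
theorem exists_smul_near {N : P.Modules} {V : P.Opens} (hp : p ∈ V) (a : Γ(P, V)) (v : Γ(N, V)) (z : Γ(N, V))
    (h : P.presheaf.germ V p hp a • N.presheaf.germ V p hp v = N.presheaf.germ V p hp z) :
    ∃ (W : P.Opens) (hW : W ≤ V), p ∈ W ∧ ∀ (y : P) (hy : y ∈ W),
      P.presheaf.germ V y (hW hy) a • N.presheaf.germ V y (hW hy) v = N.presheaf.germ V y (hW hy) z := by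
  rw [← ParaFLib.germ_smul'] at h
  obtain ⟨W, hpW, i, i', e⟩ := N.presheaf.germ_eq p hp hp _ _ h
  refine ⟨W, i.le, hpW, fun y hy => ?_⟩
  rw [← ParaFLib.germ_smul', ← TopCat.Presheaf.germ_res_apply N.presheaf i y hy (a • v), e,
    TopCat.Presheaf.germ_res_apply]

omit [IsClosedImmersion ι] [ModSite.HasSheafHom (O := P.sheaf) (pushO ι)] in
theorem exists_chain_section {V : P.Opens} (hp : p ∈ V) (m : Γ(F, V)) :
    ∀ L : List Γ(P, V), Reg (germL L p hp) →
      ∃ (W : P.Opens) (hW : W ≤ V) (_ : p ∈ W) (z : Γ(R.cocomplex.X L.length, W)), ∀ (y : P) (hy : y ∈ W),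
        Chain (dP R y) (stalkLin (augP R) y) (germL L y (hW hy)) (F.presheaf.germ V y (hW hy) m) L.length
          ((R.cocomplex.X L.length).presheaf.germ W y hy z) := by
  intro L
  induction L with
  | nil =>
    intro _
    refine ⟨V, le_rfl, hp, (augP R).app V m, fun y hy => ?_⟩
    show Chain (dP R y) (stalkLin (augP R) y) [] (F.presheaf.germ V y hy m) 0 ((R.cocomplex.X 0).presheaf.germ V y hy ((augP R).app V m))
    rw [← stalkLin_germ (augP R) y hy m]
    exact .nil _
  | cons f L ih =>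
    intro hreg
    obtain ⟨W, hW, hpW, z, hz⟩ := ih hreg.2
    obtain ⟨v, hv, e⟩ := exists_div (R.cocomplex.X L.length) (R.injective _) p (germL L p hp) _ hreg.1 _
      ((hz p hpW).cocycle (res_stalk R p)).2
    obtain ⟨U, hU, v, rfl⟩ := TopCat.Presheaf.exists_germ_eq (R.cocomplex.X L.length).presheaf v
    -- the equations hold near `p`
    have key : ∀ (A : List Γ(P, V)), (∀ a ∈ A, a ∈ L) → ∃ (W' : P.Opens) (hW' : W' ≤ W ⊓ U), p ∈ W' ∧
        ∀ (y : P) (hy : y ∈ W'), ∀ a ∈ A,
          P.presheaf.germ V y (hW (hW' hy).1) a • (R.cocomplex.X L.length).presheaf.germ U y (hW' hy).2 v = 0 := by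
      intro A
      induction A with
      | nil => exact fun _ => ⟨W ⊓ U, le_rfl, ⟨hpW, hU⟩, fun y hy a ha => absurd ha (by simp)⟩
      | cons a A ihA =>
        intro hA
        obtain ⟨W', hW', hpW', h'⟩ := ihA fun b hb => hA b (List.mem_cons_of_mem _ hb)
        have h0 := hv _ (List.mem_map_of_mem (f := fun b => P.presheaf.germ V p hp b) (hA a (List.mem_cons_self ..)))
        obtain ⟨W'', hW'', hpW'', h''⟩ := exists_smul_near (N := R.cocomplex.X L.length) hpW'
          (P.presheaf.map (homOfLE (hW'.trans (inf_le_left.trans hW))).op a)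
          ((R.cocomplex.X L.length).presheaf.map (homOfLE (hW'.trans inf_le_right)).op v) 0 (by
            rw [TopCat.Presheaf.germ_res_apply, TopCat.Presheaf.germ_res_apply, map_zero]
            exact h0)
        refine ⟨W'', hW''.trans hW', hpW'', fun y hy b hb => ?_⟩
        rcases List.mem_cons.1 hb with rfl | hb
        · have := h'' y hy
          rwa [TopCat.Presheaf.germ_res_apply, TopCat.Presheaf.germ_res_apply, map_zero] at this
        · exact h' y (hW'' hy) b hb
    obtain ⟨W', hW', hpW', hkill⟩ := key L fun a ha => ha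
    obtain ⟨W'', hW'', hpW'', heq⟩ := exists_smul_near (N := R.cocomplex.X L.length) hpW'
      (P.presheaf.map (homOfLE (hW'.trans (inf_le_left.trans hW))).op f)
      ((R.cocomplex.X L.length).presheaf.map (homOfLE (hW'.trans inf_le_right)).op v)
      ((R.cocomplex.X L.length).presheaf.map (homOfLE (hW'.trans inf_le_left)).op z) (by
        rw [TopCat.Presheaf.germ_res_apply, TopCat.Presheaf.germ_res_apply, TopCat.Presheaf.germ_res_apply]
        exact e)
    refine ⟨W'', (hW''.trans hW').trans (inf_le_left.trans hW), hpW'',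
      (R.cocomplex.d L.length (L.length + 1)).app W''
        ((R.cocomplex.X L.length).presheaf.map (homOfLE ((hW''.trans hW').trans inf_le_right)).op v), fun y hy => ?_⟩
    show Chain (dP R y) (stalkLin (augP R) y) (P.presheaf.germ V y (hW (hW' (hW'' hy)).1) f :: germL L y (hW (hW' (hW'' hy)).1)) _ (L.length + 1)
      ((R.cocomplex.X (L.length + 1)).presheaf.germ W'' y hy ((R.cocomplex.d L.length (L.length + 1)).app W''
        ((R.cocomplex.X L.length).presheaf.map (homOfLE ((hW''.trans hW').trans inf_le_right)).op v)))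
    rw [← stalkLin_germ (R.cocomplex.d L.length (L.length + 1)) y hy, TopCat.Presheaf.germ_res_apply]
    refine .cons (f := P.presheaf.germ V y _ f) (hz y (hW' (hW'' hy)).1) ?_ ?_
    · intro a ha
      obtain ⟨b, hb, rfl⟩ := List.mem_map.1 ha
      exact hkill y (hW'' hy) b hb
    · have := heq y hy
      rwa [TopCat.Presheaf.germ_res_apply, TopCat.Presheaf.germ_res_apply, TopCat.Presheaf.germ_res_apply] at this

/-- The classes along germs of sections come from one section near the point. -/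
theorem exists_psi_section {V : P.Opens} (m : Γ(F, V)) (L : List Γ(P, V)) (x : X) (hx : ι x ∈ V)
    (hl : Ideal.ofList (germL L (ι x) hx) = RingHom.ker (ι.stalkMap x).hom) (hr : L.length = r)
    (hreg : Reg (germL L (ι x) hx)) :
    ∃ (W : P.Opens) (hW : W ≤ V) (_ : ι x ∈ W) (s : Γ(extT ι R r, W)), ∀ (y : P) (hy : y ∈ W),
      Psi ι R r y (germL L y (hW hy)) (F.presheaf.germ V y (hW hy) m) ((extT ι R r).presheaf.germ W y hy s) := by
  subst hr
  obtain ⟨W, hW, hxW, z, hz⟩ := exists_chain_section (R := R) hx m L hreg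
  obtain ⟨hd, hk⟩ := (hz _ hxW).cocycle (res_stalk R (ι x))
  obtain ⟨t, ht⟩ := exists_cls ι R x hd ((kill_iff_ker hl).1 hk)
  obtain ⟨W', hW', hxW', s, hs⟩ := exists_cls_section ι R z hxW ht
  exact ⟨W', hW'.trans hW, hxW', s, fun y hy => ⟨_, hz y (hW' hy), hs y hy⟩⟩

end Groth.Agent.FundLocIsoLib
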