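import Groth.Agent.FinBirLib.Smooth
import Groth.Agent.RatPtSmooth.Main

/-!
# Nonsingular varieties are smooth of relative dimension their dimension
-/

set_option autoImplicit false

universe u

open CategoryTheory CategoryTheory.Limits AlgebraicGeometry TopologicalSpace

namespace Groth.Agent.FundLocIsoLib

theorem smoothOfRelativeDimension_of_regular {k : Type u} [Field k] [IsAlgClosed k] {X : Scheme.{u}} [IsIntegral X]
    (f : X ⟶ Spec (CommRingCat.of k)) [LocallyOfFiniteType f] {d : ℕ}
    (hreg : ∀ x : X, IsRegularLocalRing (X.presheaf.stalk x)) (hd : topologicalKrullDim X = d) :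
    SmoothOfRelativeDimension d f := by
  haveI : Smooth f := FinBirLib.smooth_of_regular_algClosed f fun x _ => hreg x
  haveI := LocallyOfFiniteType.jacobsonSpace f
  haveI : Subsingleton ↥(Spec (CommRingCat.of k)) := inferInstanceAs (Subsingleton (PrimeSpectrum k))
  have hk : topologicalKrullDim ↥(Spec (CommRingCat.of k)) = ((0 : ℕ) : WithBot ℕ∞) :=
    (PrimeSpectrum.topologicalKrullDim_eq_ringKrullDim (R := k)).trans (by rw [ringKrullDim_eq_zero_of_field]; rfl)
  exact RatPtSmooth.smoothOfRelativeDimension_of_closedPoints f (𝟙 _) f (Category.comp_id f) hd hk d (Nat.add_zero d)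
    fun x _ => by
      have hx : x ∈ f.smoothLocus := by rw [Scheme.Hom.smoothLocus_eq_top]; trivial
      exact hx

end Groth.Agent.FundLocIsoLib
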