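import Groth.Agent.FundLocIsoLib.CanonExt
import Groth.Agent.FundLocIsoLib.ProjTopForms
import Groth.Agent.ProjSerreLib.DualExist
import Groth.Agent.ProjSerreLib.DualData
import Groth.Agent.JacLib.Dim
import Groth.Agent.CurveLib.Euler

/-!
# The top forms of a smooth projective scheme form a dualizing sheaf
-/

set_option autoImplicit false
set_option backward.isDefEq.respectTransparency false
set_option linter.style.haveILetI false
set_option maxHeartbeats 1000000

universe u

open CategoryTheory CategoryTheory.Limits AlgebraicGeometry TopologicalSpace Opposite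
open Groth.Agent.PullbackMod Groth.Agent.DCohLib Groth.Agent.ProjSerreLib

noncomputable section

namespace Groth.Agent.FundLocIsoLib

variable {k : Type u} [Field k] {n r : ℕ} {X : Scheme.{u}} [X.Over (Spec (CommRingCat.of k))]
  (ι : X ⟶ CohB1.ProjSpace n k) [IsClosedImmersion ι]
  (hι : ι ≫ CohB1.ProjSpace.toSpec n k = X ↘ Spec (CommRingCat.of k))
  [SmoothOfRelativeDimension r (X ↘ Spec (CommRingCat.of k))]
  {Ω : X.Modules} (hΩ : ExtPow.IsExtPow r (Omega.sheaf (X ↘ Spec (CommRingCat.of k))) Ω)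

/-- The dimension of an empty space. -/
theorem topologicalKrullDim_of_isEmpty {T : Type u} [TopologicalSpace T] (h : IsEmpty T) : topologicalKrullDim T = ⊥ := by
  haveI : IsEmpty (IrreducibleCloseds T) := ⟨fun C => h.elim C.isIrreducible.nonempty.some⟩
  exact Order.krullDim_eq_bot

include hι

theorem dim_le : topologicalKrullDim X ≤ (r : WithBot ℕ∞) := by
  rcases isEmpty_or_nonempty X with h | h
  · rw [topologicalKrullDim_of_isEmpty h]
    exact bot_le
  · exact (JacLib.topologicalKrullDim_of_smooth (X ↘ Spec (CommRingCat.of k)) r).le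

theorem le_of_nonempty (x : X) : r ≤ n := by
  haveI : QuasiSeparated (X ↘ Spec (CommRingCat.of k)) := by rw [← hι]; infer_instance
  obtain ⟨-, -, -, -, -, h⟩ := exists_conormal_sequence (CohB1.ProjSpace.toSpec n k) (X ↘ Spec (CommRingCat.of k)) ι n r hι
  obtain ⟨-, a, -, -, -, ha⟩ := h x
  omega

include hΩ in
/-- The defining property of a dualizing sheaf. -/
theorem nonempty_iso_extSh [ModSite.HasSheafHom (O := (CohB1.ProjSpace n k).sheaf) (pushO ι)]
    [HasInjectiveResolutions (ModSite.Mod (CohB1.ProjSpace n k).sheaf)] :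
    Nonempty ((Scheme.Modules.pushforward ι).obj Ω ≅
      (ModSite.extSh (O := (CohB1.ProjSpace n k).sheaf) (pushO ι) (n - r)).obj (Twist.twistProjSpace n k (-((n : ℤ) + 1)))) := by
  haveI : Smooth (CohB1.ProjSpace.toSpec n k) := SmoothOfRelativeDimension.smooth n _
  haveI := (isQCoh_and_isFP_of_isFinLocFree _ (InfLiftLib.isFinLocFree_omega (CohB1.ProjSpace.toSpec n k))).1
  obtain ⟨ωP, -, hωP⟩ := ExtPowLib.exists_isExtPow (Omega.sheaf (CohB1.ProjSpace.toSpec n k)) n
  obtain ⟨e⟩ := nonempty_topForms_extSh (CohB1.ProjSpace.toSpec n k) (X ↘ Spec (CommRingCat.of k)) ι hι n r hωP hΩ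
  obtain ⟨f⟩ := nonempty_topForms_iso_twist hωP
  exact ⟨e ≪≫ (ModSite.extSh (O := (CohB1.ProjSpace n k).sheaf) (pushO ι) (n - r)).mapIso f⟩

include hΩ in
theorem exists_trace_topForms :
    ∃ t : Coh.HH X Ω r →ₗ[k] k, ∀ F : X.Modules, Coh.IsCoh F → ∀ ψ : Coh.HH X F r →ₗ[k] k,
      ∃! φ : F ⟶ Ω, ∀ x : Coh.HH X F r,
        ψ x = t (Sheaf.H.map ((SheafOfModules.toSheaf X.ringCatSheaf).map φ) r x) := by
  rcases le_or_gt r n with hr | hr
  · haveI : ModSite.HasSheafHom (O := (CohB1.ProjSpace n k).sheaf) (pushO ι) :=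
      ModTensor.hasSheafHom (O := (CohB1.ProjSpace n k).sheaf) _
    haveI : HasInjectiveResolutions (CohB1.ProjSpace n k).Modules := inferInstance
    haveI : HasInjectiveResolutions (ModSite.Mod (CohB1.ProjSpace n k).sheaf) :=
      ‹HasInjectiveResolutions (CohB1.ProjSpace n k).Modules›
    exact exists_trace hr ι hι (dim_le ι hι) Ω (nonempty_iso_extSh ι hι hΩ)
  · haveI hX : IsEmpty ↥X := ⟨fun x => absurd (le_of_nonempty (r := r) ι hι x) (by omega)⟩
    haveI := isNoetherian_sub ι
    have h0 : ∀ F : X.Modules, Subsingleton (Coh.HH X F r) := fun F => CurveLib.subsingleton_HH_of_dim F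
      (d := 0) (by rw [topologicalKrullDim_of_isEmpty hX]; exact bot_le) (p := r) (by omega)
    refine ⟨0, fun F _ ψ => ⟨0, fun x => ?_, fun φ _ => ?_⟩⟩
    · haveI := h0 F
      rw [Subsingleton.elim x 0, map_zero, LinearMap.zero_apply]
    · exact (eq_zero_iff_stalk φ).2 fun x => hX.elim x

end Groth.Agent.FundLocIsoLib
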