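import Groth.Agent.ExtSeqLib.Maps
import Groth.Agent.DegDevLib.Wedge
import Groth.Agent.StalkHomLib.Theta
import Groth.Agent.StalkHomLib.StalkExt
import Groth.Agent.KVbLib.Rank
import Groth.Agent.AmpleLib.ExtendMod
import Mathlib.LinearAlgebra.ExteriorPower.Basis

/-!
# The perfect pairing of exterior powers of complementary degree
-/

set_option autoImplicit false
set_option backward.isDefEq.respectTransparency false
set_option linter.style.haveILetI false
set_option linter.unusedSectionVars false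
set_option maxHeartbeats 1000000

universe u

open CategoryTheory CategoryTheory.Limits AlgebraicGeometry TopologicalSpace Opposite
open Groth.Agent.PullbackMod Groth.Agent.DCohLib Groth.Agent.StalkHomLib
open scoped TensorProduct

noncomputable section

namespace Groth.Agent.FundLocIsoLib

section Algebra

variable {R M : Type u} [CommRing R] [AddCommGroup M] [Module R M] {p q n : ℕ} (hn : p + q = n)

theorem wedge_eq_zero_of_mem (b : Module.Basis (Fin n) R M) (S : Set.powersetCard (Fin n) p)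
    (T : Set.powersetCard (Fin n) q) {a : Fin n} (hS : a ∈ S) (hT : a ∈ T) :
    ExtSeq.wedge LinearMap.id hn (b.exteriorPower p S) (b.exteriorPower q T) = 0 := by
  rw [exteriorPower.basis_apply, exteriorPower.basis_apply, exteriorPower.ιMulti_family,
    exteriorPower.ιMulti_family, ExtSeq.wedge_ιMulti]
  obtain ⟨i, hi⟩ := (Set.powersetCard.mem_range_ofFinEmbEquiv_symm_iff_mem S a).mpr hS
  obtain ⟨j, hj⟩ := (Set.powersetCard.mem_range_ofFinEmbEquiv_symm_iff_mem T a).mpr hT
  refine (exteriorPower.ιMulti R n).map_eq_zero_of_eq _ (i := Fin.cast hn (Fin.castAdd q i))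
    (j := Fin.cast hn (Fin.natAdd p j)) ?_ ?_
  · simp [hi, hj]
  · intro h
    have := congrArg Fin.val h
    simp at this
    omega

theorem exists_unit_wedge (b : Module.Basis (Fin n) R M) (S : Set.powersetCard (Fin n) p)
    (T : Set.powersetCard (Fin n) q) (h : ∀ a, a ∈ T → a ∉ S) :
    ∃ ε : Rˣ, ExtSeq.wedge LinearMap.id hn (b.exteriorPower p S) (b.exteriorPower q T) =
      (ε : R) • exteriorPower.ιMulti R n (b : Fin n → M) := by
  rw [exteriorPower.basis_apply, exteriorPower.basis_apply, exteriorPower.ιMulti_family,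
    exteriorPower.ιMulti_family, ExtSeq.wedge_ιMulti]
  let σ : Fin n → Fin n := fun i =>
    Fin.append (Set.powersetCard.ofFinEmbEquiv.symm S) (Set.powersetCard.ofFinEmbEquiv.symm T) (Fin.cast hn.symm i)
  have hσ : Function.Injective σ := by
    refine Function.Injective.comp (Fin.append_injective_iff.2
      ⟨(Set.powersetCard.ofFinEmbEquiv.symm S).injective, (Set.powersetCard.ofFinEmbEquiv.symm T).injective, ?_⟩)
      (Fin.cast_injective _)
    intro i j e
    exact h _ ((Set.powersetCard.mem_range_ofFinEmbEquiv_symm_iff_mem T _).mp ⟨j, e.symm⟩)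
      ((Set.powersetCard.mem_range_ofFinEmbEquiv_symm_iff_mem S _).mp ⟨i, rfl⟩)
  let τ : Equiv.Perm (Fin n) := Equiv.ofBijective σ (Finite.injective_iff_bijective.1 hσ)
  refine ⟨Units.map (Int.castRingHom R).toMonoidHom (Equiv.Perm.sign τ), ?_⟩
  have e : (fun i => Fin.append ((LinearMap.id : M →ₗ[R] M) ∘ b ∘ ⇑(Set.powersetCard.ofFinEmbEquiv.symm S))
      (b ∘ ⇑(Set.powersetCard.ofFinEmbEquiv.symm T)) (Fin.cast hn.symm i)) = (b : Fin n → M) ∘ τ := by
    funext i
    show _ = b (σ i)
    simp only [σ]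
    refine Fin.addCases (fun l => ?_) (fun l => ?_) (Fin.cast hn.symm i) <;> simp
  rw [e, (exteriorPower.ιMulti R n).map_perm]
  simp [Units.smul_def, ← Int.cast_smul_eq_zsmul R]

/-- Complementary subsets give dual bases under the wedge pairing. -/
theorem exists_compl_wedge (b : Module.Basis (Fin n) R M) :
    ∃ (E : Set.powersetCard (Fin n) p ≃ Set.powersetCard (Fin n) q) (ε : Set.powersetCard (Fin n) p → Rˣ),
      (∀ S, ExtSeq.wedge LinearMap.id hn (b.exteriorPower p S) (b.exteriorPower q (E S)) =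
        (ε S : R) • exteriorPower.ιMulti R n (b : Fin n → M)) ∧
      ∀ S' S, S' ≠ S → ExtSeq.wedge LinearMap.id hn (b.exteriorPower p S') (b.exteriorPower q (E S)) = 0 := by
  classical
  let E : Set.powersetCard (Fin n) p ≃ Set.powersetCard (Fin n) q :=
    Set.powersetCard.compl (show q + p = Fintype.card (Fin n) by rw [Fintype.card_fin]; omega)
  have hE : ∀ S a, a ∈ E S ↔ a ∉ S := fun S a => Set.powersetCard.mem_compl
  choose ε hε using fun S => exists_unit_wedge hn b S (E S) fun a ha => (hE S a).1 ha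
  refine ⟨E, ε, hε, fun S' S hne => ?_⟩
  obtain ⟨a, ha, ha'⟩ := (Set.powersetCard.exists_mem_notMem_iff_ne S' S).mp hne
  exact wedge_eq_zero_of_mem hn b S' (E S) ha ((hE S a).2 ha')

end Algebra

variable {X : Scheme.{u}} [IsLocallyNoetherian X] {E : X.Modules} {p q n : ℕ}
  {L L' Ω : X.Modules}

/-- Exterior powers of complementary degree are dual into the top one. -/
theorem nonempty_iso_hF_extPow (hn : p + q = n) (hE : FlatMod.IsFinLocFree E)
    (hfr : ∀ x : X, ∃ (U : X.Opens) (s : Fin n → Γ(E, U)), x ∈ U ∧ DegDevLib.IsFrame U s)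
    (hL : ExtPow.IsExtPow p E L) (hL' : ExtPow.IsExtPow q E L') (hΩ : ExtPow.IsExtPow n E Ω)
    [ModSite.HasSheafHom (O := X.sheaf) L'] : Nonempty (L ≅ (hF L').obj Ω) := by
  classical
  obtain ⟨d⟩ := ExtSeq.nonempty_EP hL
  obtain ⟨d'⟩ := ExtSeq.nonempty_EP hL'
  obtain ⟨dΩ⟩ := ExtSeq.nonempty_EP hΩ
  haveI := (isQCoh_and_isFP_of_isFinLocFree _ hE).1
  haveI : Coh.IsQCoh L := ExtPowLib.isQCoh_of_isExtPow hL
  haveI : Coh.IsQCoh L' := ExtPowLib.isQCoh_of_isExtPow hL'
  have hLc : Coh.IsCoh L' := CurveLib.isCoh_of_isFinLocFree (KVb.extPow_flf hE hL').1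
  let w : ∀ U : X.affineOpens, Γ(L, U.1) →ₗ[Γ(X, U.1)] Γ(L', U.1) →ₗ[Γ(X, U.1)] Γ(Ω, U.1) := fun U =>
    ((ExtSeq.wedge (FlatLocus.appL (𝟙 E) U.1) hn).compl₁₂ (d.φ U).toLinearMap (d'.φ U).toLinearMap).compr₂
      (dΩ.φ U).symm.toLinearMap
  obtain ⟨φ, hφ⟩ := ExtSeq.exists_pairing w fun U V h m e => by
    show ExtSeq.rs Ω h ((dΩ.φ U).symm (ExtSeq.wedge _ hn (d.φ U m) (d'.φ U e))) =
      (dΩ.φ V).symm (ExtSeq.wedge _ hn (d.φ V (ExtSeq.rs _ h m)) (d'.φ V (ExtSeq.rs _ h e)))
    rw [dΩ.rs_symm h, d.apply_rs h, d'.apply_rs h, ExtSeq.resExt_wedge]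
  let μ : tmod L L' ⟶ Ω := φ.lift
  let a : L ⟶ (hF L').obj Ω := (ModSite.sheafHomAdj (O := X.sheaf) L').homEquiv L Ω μ
  have hgerm : ∀ (x : X) (V : X.affineOpens) (hx : x ∈ V.1) (z : Γ(L, V.1)) (v : Γ(L', V.1)),
      theta L' Ω x (stalkLin a x (L.presheaf.germ V.1 x hx z)) (L'.presheaf.germ V.1 x hx v) =
        Ω.presheaf.germ V.1 x hx (w V z v) := fun x V hx z v => by
    rw [theta_transpose, Equiv.symm_apply_apply, ← AmpleLib.germ_pairS]
    refine (stalkLin_germ μ x hx _).trans ?_
    exact congrArg _ ((φ.lift_pairS z v).trans (hφ V z v))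
  haveI : IsIso a := (isIso_iff_stalk a).2 fun x => by
    obtain ⟨U, s, hxU, hs⟩ := hfr x
    obtain ⟨V, hV, hVU⟩ := ExtSeq.exists_affine_nhd (U := U) hxU
    have hsV := hs.res hVU
    obtain ⟨F, ε, hε, h0⟩ := exists_compl_wedge hn hsV.basis
    let B := (hsV.basis.exteriorPower p).map (d.φ V).symm
    let B' := (hsV.basis.exteriorPower q).map (d'.φ V).symm
    let g : Γ(Ω, V.1) := (dΩ.φ V).symm (exteriorPower.ιMulti _ n (hsV.basis : Fin n → Γ(E, V.1)))
    have hg : Function.Bijective fun r : X.presheaf.stalk x => r • Ω.presheaf.germ V.1 x hV g := by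
      have h := (DegDevLib.gen_wsec dΩ.φ dΩ.comp hsV).bijective_germ x hV
      simp only [g, DegDevLib.IsFrame.basis_apply]
      exact h
    have hw : ∀ S T, w V (B S) (B' T) = (dΩ.φ V).symm
        (ExtSeq.wedge LinearMap.id hn (hsV.basis.exteriorPower p S) (hsV.basis.exteriorPower q T)) := fun S T => by
      simp only [w, B, B', LinearMap.compr₂_apply, LinearMap.compl₁₂_apply, LinearEquiv.coe_coe, Module.Basis.map_apply,
        LinearEquiv.apply_symm_apply]
      congr 2
    let e' : Set.powersetCard (Fin n) p → L.presheaf.stalk x := fun S => L.presheaf.germ V.1 x hV (B S)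
    let f' : Set.powersetCard (Fin n) q → L'.presheaf.stalk x := fun T => L'.presheaf.germ V.1 x hV (B' T)
    have hspan : Submodule.span (X.presheaf.stalk x) (Set.range e') = ⊤ := by
      have h := AmpleLib.span_germ_eq_top L V.2 hV (Set.range B) B.span_eq
      rwa [← Set.range_comp] at h
    have hspan' : Submodule.span (X.presheaf.stalk x) (Set.range f') = ⊤ := by
      have h := AmpleLib.span_germ_eq_top L' V.2 hV (Set.range B') B'.span_eq
      rwa [← Set.range_comp] at h
    let εx : Set.powersetCard (Fin n) p → (X.presheaf.stalk x)ˣ := fun S =>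
      Units.map (X.presheaf.germ V.1 x hV).hom.toMonoidHom (ε S)
    have key : ∀ (c : Set.powersetCard (Fin n) p → X.presheaf.stalk x) (S : Set.powersetCard (Fin n) p),
        theta L' Ω x (stalkLin a x (∑ S', c S' • e' S')) (f' (F S)) =
          (c S * εx S) • Ω.presheaf.germ V.1 x hV g := fun c S => by
      rw [map_sum, map_sum, LinearMap.sum_apply, Finset.sum_eq_single S]
      · rw [map_smul, map_smul, LinearMap.smul_apply, hgerm, hw, hε, map_smul, germ_smul', smul_smul]
        rfl
      · intro S' _ hne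
        rw [map_smul, map_smul, LinearMap.smul_apply, hgerm, hw, h0 _ _ hne, map_zero, map_zero, smul_zero]
      · exact fun h => absurd (Finset.mem_univ S) h
    refine ⟨(injective_iff_map_eq_zero _).2 fun z hz => ?_, fun t => ?_⟩
    · obtain ⟨c, rfl⟩ := (Submodule.mem_span_range_iff_exists_fun _).1
        (hspan ▸ Submodule.mem_top : z ∈ Submodule.span (X.presheaf.stalk x) (Set.range e'))
      refine Finset.sum_eq_zero fun S _ => ?_
      have h := key c S
      rw [hz, map_zero, LinearMap.zero_apply] at h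
      have h' : c S * εx S = 0 := hg.1 (h.symm.trans (zero_smul _ _).symm)
      rw [Units.mul_left_eq_zero] at h'
      rw [h', zero_smul]
    · choose r hr using fun S => hg.2 (theta L' Ω x t (f' (F S)))
      refine ⟨∑ S, (r S * ((εx S)⁻¹ : _ˣ)) • e' S, (theta_bijective L' x hLc Ω).1 (LinearMap.ext_on hspan' ?_)⟩
      rintro _ ⟨T, rfl⟩
      obtain ⟨S, rfl⟩ := F.surjective T
      rw [key, mul_assoc, Units.inv_mul, mul_one]
      exact hr S
  exact ⟨asIso a⟩

end Groth.Agent.FundLocIsoLib
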