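import Groth.Agent.FundLocIsoLib.WedgePair
import Groth.Agent.ProjSerreLib.Twists

/-!
# Twisting the perfect pairing
-/

set_option autoImplicit false
set_option backward.isDefEq.respectTransparency false
set_option linter.style.haveILetI false

universe u

open CategoryTheory CategoryTheory.Limits AlgebraicGeometry
open Groth.Agent.StalkHomLib

noncomputable section

namespace Groth.Agent.FundLocIsoLib

variable {X : Scheme.{u}}

theorem nonempty_twist_iso {L L' Ω A B : X.Modules}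
    [ModSite.HasSheafHom (O := X.sheaf) A] [ModSite.HasSheafHom (O := X.sheaf) L']
    [ModSite.HasSheafHom (O := X.sheaf) (CohB1.tensorMod L' A)] [DCoh.HasSheafHom (CohB1.tensorMod L' A)]
    (e : L ≅ (hF L').obj Ω) (η : CohB1.tensorMod A B ≅ Coh.structureModule X) :
    Nonempty (CohB1.tensorMod L B ≅ (DCoh.sheafHom (CohB1.tensorMod L' A)).obj Ω) := by
  obtain ⟨φ⟩ := ProjSerreLib.nonempty_hF_invertible η L
  let a1 : CurveLib.tensR A ⋙ CurveLib.tensR L' ≅ CurveLib.tensR (CohB1.tensorMod L' A) :=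
    ModTensor.tensorAssoc X.sheaf A L' ≪≫ (DCoh.tensorBi (X := X)).flip.mapIso (AmpleLib.comm A L')
  let a2 : hF L' ⋙ hF A ≅ hF (CohB1.tensorMod L' A) :=
    ((((ModSite.sheafHomAdj (O := X.sheaf) A).comp
      (ModSite.sheafHomAdj (O := X.sheaf) L')).ofNatIsoLeft a1).rightAdjointUniq
        (ModSite.sheafHomAdj (O := X.sheaf) (CohB1.tensorMod L' A)))
  obtain ⟨ψ⟩ := ProjSerreLib.nonempty_sheafHom_iso (CohB1.tensorMod L' A) Ω
  exact ⟨φ.symm ≪≫ (hF A).mapIso e ≪≫ a2.app Ω ≪≫ ψ⟩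

end Groth.Agent.FundLocIsoLib
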